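import Cfsg.Agent.AN.LFD

set_option autoImplicit false
set_option Elab.async false
set_option maxRecDepth 100000
set_option exponentiation.threshold 400000

namespace Cfsg.Agent.AN.LF

open Cfsg Cfsg.Agent.H58 Cfsg.Agent.H17

theorem c1 : rangeB chk 24 8 = true := by decide +kernel
theorem c3 : rangeB chk 34 4 = true := by decide +kernel
theorem c5 : rangeB chk 42 2 = true := by decide +kernel
theorem c7 : rangeB chk 45 2 = true := by decide +kernel
theorem c9 : rangeB chk 48 5 = true := by decide +kernel
theorem c11 : rangeB chk 54 4 = true := by decide +kernel
theorem c13 : rangeB chk 65 2 = true := by decide +kernel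
theorem c15 : rangeB chk 69 3 = true := by decide +kernel
theorem c17 : rangeB chk 75 1 = true := by decide +kernel
theorem c19 : rangeB chk 78 2 = true := by decide +kernel
theorem c21 : rangeB chk 81 1 = true := by decide +kernel
theorem c23 : rangeB chk 83 1 = true := by decide +kernel
theorem c25 : rangeB chk 85 1 = true := by decide +kernel
theorem c27 : rangeB chk 87 1 = true := by decide +kernel
theorem c29 : rangeB chk 89 1 = true := by decide +kernel
theorem c31 : rangeB chk 91 1 = true := by decide +kernel
theorem c33 : rangeB chk 93 1 = true := by decide +kernel
theorem c35 : rangeB chk 95 5 = true := by decide +kernel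
theorem c37 : rangeB chk 101 1 = true := by decide +kernel
theorem c39 : rangeB chk 103 1 = true := by decide +kernel
theorem c41 : rangeB chk 105 1 = true := by decide +kernel
theorem c43 : rangeB chk 107 1 = true := by decide +kernel
theorem c45 : rangeB chk 109 1 = true := by decide +kernel
theorem c47 : rangeB chk 111 3 = true := by decide +kernel
theorem c49 : rangeB chk 115 1 = true := by decide +kernel
theorem c51 : rangeB chk 117 2 = true := by decide +kernel
theorem c53 : rangeB chk 120 1 = true := by decide +kernel
theorem c55 : rangeB chk 122 1 = true := by decide +kernel
theorem c57 : rangeB chk 125 1 = true := by decide +kernel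
theorem c59 : rangeB chk 131 1 = true := by decide +kernel
theorem c61 : rangeB chk 133 1 = true := by decide +kernel
theorem c63 : rangeB chk 135 1 = true := by decide +kernel
theorem c65 : rangeB chk 137 1 = true := by decide +kernel
theorem c67 : rangeB chk 139 1 = true := by decide +kernel
theorem c69 : rangeB chk 141 1 = true := by decide +kernel
theorem c71 : rangeB chk 144 2 = true := by decide +kernel
theorem c73 : rangeB chk 147 1 = true := by decide +kernel
theorem c75 : rangeB chk 150 1 = true := by decide +kernel
theorem c77 : rangeB chk 152 1 = true := by decide +kernel
theorem c79 : rangeB chk 154 1 = true := by decide +kernel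
theorem c81 : rangeB chk 156 1 = true := by decide +kernel
theorem c83 : rangeB chk 158 1 = true := by decide +kernel
theorem c85 : rangeB chk 160 2 = true := by decide +kernel
theorem c87 : rangeB chk 163 1 = true := by decide +kernel
theorem c89 : rangeB chk 165 1 = true := by decide +kernel
theorem c91 : rangeB chk 167 1 = true := by decide +kernel
theorem c93 : rangeB chk 169 1 = true := by decide +kernel
theorem c95 : rangeB chk 171 1 = true := by decide +kernel
theorem c97 : rangeB chk 173 1 = true := by decide +kernel
theorem c99 : rangeB chk 175 1 = true := by decide +kernel
theorem c101 : rangeB chk 177 1 = true := by decide +kernel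
theorem c103 : rangeB chk 179 1 = true := by decide +kernel
theorem c105 : rangeB chk 181 1 = true := by decide +kernel
theorem c107 : rangeB chk 183 1 = true := by decide +kernel
theorem c109 : rangeB chk 185 1 = true := by decide +kernel
theorem c111 : rangeB chk 187 1 = true := by decide +kernel
theorem c113 : rangeB chk 189 1 = true := by decide +kernel
theorem c115 : rangeB chk 191 1 = true := by decide +kernel
theorem c117 : rangeB chk 193 1 = true := by decide +kernel
theorem c119 : rangeB chk 195 1 = true := by decide +kernel
theorem c121 : rangeB chk 197 1 = true := by decide +kernel
theorem c123 : rangeB chk 199 1 = true := by decide +kernel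
theorem c125 : rangeB chk 201 1 = true := by decide +kernel
theorem c127 : rangeB chk 203 1 = true := by decide +kernel
theorem c129 : rangeB chk 205 1 = true := by decide +kernel
theorem c131 : rangeB chk 207 1 = true := by decide +kernel
theorem c133 : rangeB chk 209 1 = true := by decide +kernel
theorem c135 : rangeB chk 211 1 = true := by decide +kernel
theorem c137 : rangeB chk 213 1 = true := by decide +kernel
theorem c139 : rangeB chk 215 1 = true := by decide +kernel
theorem c141 : rangeB chk 217 1 = true := by decide +kernel
theorem c143 : rangeB chk 219 1 = true := by decide +kernel
theorem c145 : rangeB chk 221 1 = true := by decide +kernel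
theorem c147 : rangeB chk 223 1 = true := by decide +kernel
theorem c149 : rangeB chk 225 1 = true := by decide +kernel
theorem c151 : rangeB chk 227 1 = true := by decide +kernel
theorem c153 : rangeB chk 229 1 = true := by decide +kernel
theorem c155 : rangeB chk 231 1 = true := by decide +kernel
theorem c157 : rangeB chk 233 1 = true := by decide +kernel
theorem c159 : rangeB chk 235 1 = true := by decide +kernel

end Cfsg.Agent.AN.LF
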