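import Cfsg.Agent.AN.LFD

set_option autoImplicit false
set_option Elab.async false
set_option maxRecDepth 100000
set_option exponentiation.threshold 400000

namespace Cfsg.Agent.AN.LF

open Cfsg Cfsg.Agent.H58 Cfsg.Agent.H17

theorem sd0_0 : sideOK FT iv 236 LM0.nets (mskL g0) (mskL g1) (SS1.map Sid.j) 0 full0 s0_0 = true := by decide +kernel
theorem sd0_1 : sideOK FT iv 236 LM0.nets (mskL g0) (mskL g1) (SS1.map Sid.j) 0 full0 s0_1 = true := by decide +kernel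
theorem sd0_2 : sideOK FT iv 236 LM0.nets (mskL g0) (mskL g1) (SS1.map Sid.j) 0 full0 s0_2 = true := by decide +kernel
theorem sd0_3 : sideOK FT iv 236 LM0.nets (mskL g0) (mskL g1) (SS1.map Sid.j) 0 full0 s0_3 = true := by decide +kernel
theorem sd0_4 : sideOK FT iv 236 LM0.nets (mskL g0) (mskL g1) (SS1.map Sid.j) 0 full0 s0_4 = true := by decide +kernel
theorem sd0 : ∀ s ∈ SS0, sideOK FT iv 236 LM0.nets (mskL g0) (mskL g1) (SS1.map Sid.j) 0 full0 s = true :=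
  (forall_cons sd0_0 (forall_cons sd0_1 (forall_cons sd0_2 (forall_cons sd0_3 (forall_cons sd0_4 (forall_nil' _))))))
theorem kp0 : keepErr LM0.nets (g0.map fun x => [x]) full0 = 0 := by decide +kernel
theorem po0 : orbErr LM0.nets (g0.map fun x => [x]) [6, 2, 4, 5, 3, 6, 5, 4, 3, 1, 6, 7, 5, 4, 6, 3, 5, 0, 6, 4, 1, 3, 2, 5, 0] 0 17 22275 = 0 := by decide +kernel
theorem fx0 : fixErr LM0.nets ([1, 2, 3, 4, 5, 6, 8, 9, 10, 11].map fun x => [x]) [0] = 0 := by decide +kernel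

theorem sd1_0 : sideOK FT iv 236 LM1.nets (mskL g1) (mskL g0) (SS0.map Sid.j) 0 full1 s1_0 = true := by decide +kernel
theorem sd1_1 : sideOK FT iv 236 LM1.nets (mskL g1) (mskL g0) (SS0.map Sid.j) 0 full1 s1_1 = true := by decide +kernel
theorem sd1_2 : sideOK FT iv 236 LM1.nets (mskL g1) (mskL g0) (SS0.map Sid.j) 0 full1 s1_2 = true := by decide +kernel
theorem sd1_3 : sideOK FT iv 236 LM1.nets (mskL g1) (mskL g0) (SS0.map Sid.j) 0 full1 s1_3 = true := by decide +kernel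
theorem sd1_4 : sideOK FT iv 236 LM1.nets (mskL g1) (mskL g0) (SS0.map Sid.j) 0 full1 s1_4 = true := by decide +kernel
theorem sd1_5 : sideOK FT iv 236 LM1.nets (mskL g1) (mskL g0) (SS0.map Sid.j) 0 full1 s1_5 = true := by decide +kernel
theorem sd1_6 : sideOK FT iv 236 LM1.nets (mskL g1) (mskL g0) (SS0.map Sid.j) 0 full1 s1_6 = true := by decide +kernel
theorem sd1_7 : sideOK FT iv 236 LM1.nets (mskL g1) (mskL g0) (SS0.map Sid.j) 0 full1 s1_7 = true := by decide +kernel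
theorem sd1 : ∀ s ∈ SS1, sideOK FT iv 236 LM1.nets (mskL g1) (mskL g0) (SS0.map Sid.j) 0 full1 s = true :=
  (forall_cons sd1_0 (forall_cons sd1_1 (forall_cons sd1_2 (forall_cons sd1_3 (forall_cons sd1_4 (forall_cons sd1_5 (forall_cons sd1_6 (forall_cons sd1_7 (forall_nil' _)))))))))
theorem kp1 : keepErr LM1.nets (g1.map fun x => [x]) full1 = 0 := by decide +kernel
theorem po1 : orbErr LM1.nets (g1.map fun x => [x]) [10, 0, 1, 6, 2, 8, 10, 0, 4, 6, 10, 5, 0, 2, 0] 0 14 165 = 0 := by decide +kernel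
theorem fx1 : fixErr LM1.nets ([1, 2, 3, 4, 5, 6, 8, 9, 10, 11].map fun x => [x]) [0] = 0 := by decide +kernel

theorem t0f0 : fixErr LM0.nets [[7], [10], [8], [5], [6], [4], [2], [3], [1]] [] = 0 := by decide +kernel
theorem t0o0 : orbErr LM0.nets [[7], [10], [8], [5], [6], [4], [2], [3], [1]] [0, 1, 2, 3, 4, 5, 0, 3, 4, 6, 5, 2, 0, 3, 4, 5, 0, 7, 6, 3, 4, 8, 0, 2, 3, 5, 8] 32768 17 66825 = 0 := by decide +kernel
theorem t0f1 : fixErr LM0.nets [[1], [6], [8], [5], [4], [3], [2]] [32768] = 0 := by decide +kernel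
theorem t0o1 : orbErr LM0.nets [[1], [6], [8], [5], [4], [3], [2]] [0, 1, 2, 3, 1, 0, 2, 4, 3, 5, 6, 2, 0, 6] 22275 17 240 = 0 := by decide +kernel
theorem t0f2 : fixErr LM0.nets [[2], [3], [4], [5], [1, 3, 6, 9, 4, 6, 3, 1]] [22275, 32768] = 0 := by decide +kernel
theorem t0o2 : orbErr LM0.nets [[2], [3], [4], [5], [1, 3, 6, 9, 4, 6, 3, 1]] [0, 1, 2, 3, 4, 0, 3, 1] 55046 17 56 = 0 := by decide +kernel
theorem t0f3 : fixErr LM0.nets [[3, 2, 5], [1, 4, 6, 5, 4, 9, 5, 6, 2, 1]] [55046, 22275, 32768] = 0 := by decide +kernel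
theorem t0o3 : orbErr LM0.nets [[3, 2, 5], [1, 4, 6, 5, 4, 9, 5, 6, 2, 1]] [0, 1, 0] 87812 17 6 = 0 := by decide +kernel
theorem base0 {D : Type*} [Group D] [Finite D] (M : Model D) (hM : M.nets = LM0.nets) (h : Nat.card D ≤ 5388768000) :
    M.fixK ⊤ (bl0.map Prod.fst) = ⊥ ∧ Nat.card D = 5388768000 ∧ Function.Injective M.φ :=
  fix_bot h fun m hm => le_trans (by omega) (show 66825 * (240 * (56 * (6 * (m)))) ≤ _ from
    (M.lev_step (fun _ _ => trivial) (hM ▸ t0f0) (hM ▸ t0o0)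
    (M.lev_step (fun _ _ => trivial) (hM ▸ t0f1) (hM ▸ t0o1)
    (M.lev_step (fun _ _ => trivial) (hM ▸ t0f2) (hM ▸ t0o2)
    (M.lev_step (fun _ _ => trivial) (hM ▸ t0f3) (hM ▸ t0o3)
    hm)))))

theorem t1f0 : fixErr LM1.nets [[1], [2], [3], [4], [5], [8], [10], [12], [6]] [] = 0 := by decide +kernel
theorem t1o0 : orbErr LM1.nets [[1], [2], [3], [4], [5], [8], [10], [12], [6]] [0, 1, 2, 3, 4, 5, 6, 7, 8, 0, 5, 2, 3, 4, 8, 0] 256 14 5040 = 0 := by decide +kernel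
theorem t1f1 : fixErr LM1.nets [[3, 12, 11, 1], [6, 4, 5, 10, 13]] [256] = 0 := by decide +kernel
theorem t1o1 : orbErr LM1.nets [[3, 12, 11, 1], [6, 4, 5, 10, 13]] [0, 1, 0, 0, 0] 8448 14 11 = 0 := by decide +kernel
theorem t1f2 : fixErr LM1.nets [[1, 4, 13, 6, 5, 12, 5], [2, 6, 5, 4, 9, 12, 6], [3, 4, 3, 2, 5, 13, 4], [5, 6, 10, 13, 5, 6, 9]] [8448, 256] = 0 := by decide +kernel
theorem t1o2 : orbErr LM1.nets [[1, 4, 13, 6, 5, 12, 5], [2, 6, 5, 4, 9, 12, 6], [3, 4, 3, 2, 5, 13, 4], [5, 6, 10, 13, 5, 6, 9]] [0, 1, 2, 3] 8465 14 10 = 0 := by decide +kernel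
theorem t1f3 : fixErr LM1.nets [[3, 4, 6, 13, 8, 12, 6], [5, 6, 10, 13, 5, 6, 9], [3, 12, 2, 6, 13, 8, 4, 3]] [8465, 8448, 256] = 0 := by decide +kernel
theorem t1o3 : orbErr LM1.nets [[3, 4, 6, 13, 8, 12, 6], [5, 6, 10, 13, 5, 6, 9], [3, 12, 2, 6, 13, 8, 4, 3]] [0, 1, 2, 1] 8482 14 9 = 0 := by decide +kernel
theorem t1f4 : fixErr LM1.nets [[9, 10, 12, 2, 13, 6, 12, 2, 13], [10, 12, 6, 13, 2, 10, 6, 5, 4, 6], [5, 8, 12, 6, 8, 13, 11, 13, 5, 13, 6, 3]] [8482, 8465, 8448, 256] = 0 := by decide +kernel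
theorem t1o4 : orbErr LM1.nets [[9, 10, 12, 2, 13, 6, 12, 2, 13], [10, 12, 6, 13, 2, 10, 6, 5, 4, 6], [5, 8, 12, 6, 8, 13, 11, 13, 5, 13, 6, 3]] [0, 1, 2] 8499 14 8 = 0 := by decide +kernel
theorem base1 {D : Type*} [Group D] [Finite D] (M : Model D) (hM : M.nets = LM1.nets) (h : Nat.card D ≤ 39916800) :
    M.fixK ⊤ (bl1.map Prod.fst) = ⊥ ∧ Nat.card D = 39916800 ∧ Function.Injective M.φ :=
  fix_bot h fun m hm => le_trans (by omega) (show 5040 * (11 * (10 * (9 * (8 * (m))))) ≤ _ from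
    (M.lev_step (fun _ _ => trivial) (hM ▸ t1f0) (hM ▸ t1o0)
    (M.lev_step (fun _ _ => trivial) (hM ▸ t1f1) (hM ▸ t1o1)
    (M.lev_step (fun _ _ => trivial) (hM ▸ t1f2) (hM ▸ t1o2)
    (M.lev_step (fun _ _ => trivial) (hM ▸ t1f3) (hM ▸ t1o3)
    (M.lev_step (fun _ _ => trivial) (hM ▸ t1f4) (hM ▸ t1o4)
    hm))))))

theorem u1f0 : fixErr LM0.nets (subW (stabWs FT iv s0_1) [[0], [2], [4], [6], [8]]) [] = 0 := by decide +kernel
theorem u1o0 : orbErr LM0.nets (subW (stabWs FT iv s0_1) [[0], [2], [4], [6], [8]]) [0, 1, 2, 3, 4, 0, 1, 2, 3, 0, 1, 2, 3, 0, 1, 2, 4, 0] 32794 17 10080 = 0 := by decide +kernel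
theorem i0_1 {D : Type*} [Group D] [Finite D] (M : Model D) (hM : M.nets = LM0.nets) (h : Nat.card D = 5388768000) :
    (clW M.el (stabWs FT iv s0_1)).index ≤ 534600 :=
  index_le_of_card h (show 10080 * (1) ≤ _ from
    (M.lev_step (subW_mem _ _ _) (hM ▸ u1f0) (hM ▸ u1o0)
    (M.chain_base _))) (by norm_num)

theorem u2f0 : fixErr LM0.nets (subW (stabWs FT iv s0_2) [[0], [2], [4], [6], [8], [10]]) [] = 0 := by decide +kernel
theorem u2o0 : orbErr LM0.nets (subW (stabWs FT iv s0_2) [[0], [2], [4], [6], [8], [10]]) [0, 1, 2, 3, 4, 5, 0, 2, 4, 3, 5, 1, 4, 3, 5, 0, 2, 4, 1, 0] 32824 17 34992 = 0 := by decide +kernel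
theorem u2f1 : fixErr LM0.nets (subW (stabWs FT iv s0_2) [[3, 10, 2, 9, 11], [2, 10, 3, 11, 9, 1]]) [32824] = 0 := by decide +kernel
theorem u2o1 : orbErr LM0.nets (subW (stabWs FT iv s0_2) [[3, 10, 2, 9, 11], [2, 10, 3, 11, 9, 1]]) [0, 1, 0, 0, 0] 0 17 10 = 0 := by decide +kernel
theorem i0_2 {D : Type*} [Group D] [Finite D] (M : Model D) (hM : M.nets = LM0.nets) (h : Nat.card D = 5388768000) :
    (clW M.el (stabWs FT iv s0_2)).index ≤ 15400 :=
  index_le_of_card h (show 34992 * (10 * (1)) ≤ _ from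
    (M.lev_step (subW_mem _ _ _) (hM ▸ u2f0) (hM ▸ u2o0)
    (M.lev_step (subW_mem _ _ _) (hM ▸ u2f1) (hM ▸ u2o1)
    (M.chain_base _)))) (by norm_num)

theorem u3f0 : fixErr LM0.nets (subW (stabWs FT iv s0_3) [[0], [2], [4], [6], [8]]) [] = 0 := by decide +kernel
theorem u3o0 : orbErr LM0.nets (subW (stabWs FT iv s0_3) [[0], [2], [4], [6], [8]]) [0, 1, 2, 3, 4, 0, 1, 2, 4, 0, 1, 2, 4, 0, 1, 0, 0] 812 17 2880 = 0 := by decide +kernel
theorem i0_3 {D : Type*} [Group D] [Finite D] (M : Model D) (hM : M.nets = LM0.nets) (h : Nat.card D = 5388768000) :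
    (clW M.el (stabWs FT iv s0_3)).index ≤ 1871100 :=
  index_le_of_card h (show 2880 * (1) ≤ _ from
    (M.lev_step (subW_mem _ _ _) (hM ▸ u3f0) (hM ▸ u3o0)
    (M.chain_base _))) (by norm_num)

theorem u4f0 : fixErr LM0.nets (subW (stabWs FT iv s0_4) [[0], [2], [4], [6]]) [] = 0 := by decide +kernel
theorem u4o0 : orbErr LM0.nets (subW (stabWs FT iv s0_4) [[0], [2], [4], [6]]) [0, 1, 2, 3, 0, 1, 3, 0, 3, 1, 3, 0, 3, 0] 10 17 750 = 0 := by decide +kernel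
theorem i0_4 {D : Type*} [Group D] [Finite D] (M : Model D) (hM : M.nets = LM0.nets) (h : Nat.card D = 5388768000) :
    (clW M.el (stabWs FT iv s0_4)).index ≤ 7185024 :=
  index_le_of_card h (show 750 * (1) ≤ _ from
    (M.lev_step (subW_mem _ _ _) (hM ▸ u4f0) (hM ▸ u4o0)
    (M.chain_base _))) (by norm_num)

theorem v0f0 : fixErr LM1.nets (subW (stabWs FT iv s1_0) [[0], [2], [4], [6], [8], [12], [14], [10]]) [] = 0 := by decide +kernel
theorem v0o0 : orbErr LM1.nets (subW (stabWs FT iv s1_0) [[0], [2], [4], [6], [8], [12], [14], [10]]) [0, 1, 2, 3, 4, 5, 6, 7, 0, 5, 3, 4, 7, 6, 5, 2] 256 14 5040 = 0 := by decide +kernel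
theorem v0f1 : fixErr LM1.nets (subW (stabWs FT iv s1_0) [[2, 4, 10, 7, 3, 1], [4, 15, 2, 9, 15, 1], [15, 8, 2, 11, 13, 3]]) [256] = 0 := by decide +kernel
theorem v0o1 : orbErr LM1.nets (subW (stabWs FT iv s1_0) [[2, 4, 10, 7, 3, 1], [4, 15, 2, 9, 15, 1], [15, 8, 2, 11, 13, 3]]) [0, 1, 2, 0, 1, 0, 2, 0] 22 14 48 = 0 := by decide +kernel
theorem i1_0 {D : Type*} [Group D] [Finite D] (M : Model D) (hM : M.nets = LM1.nets) (h : Nat.card D = 39916800) :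
    (clW M.el (stabWs FT iv s1_0)).index ≤ 165 :=
  index_le_of_card h (show 5040 * (48 * (1)) ≤ _ from
    (M.lev_step (subW_mem _ _ _) (hM ▸ v0f0) (hM ▸ v0o0)
    (M.lev_step (subW_mem _ _ _) (hM ▸ v0f1) (hM ▸ v0o1)
    (M.chain_base _)))) (by norm_num)

theorem v1f0 : fixErr LM1.nets (subW (stabWs FT iv s1_1) [[0], [2], [4]]) [] = 0 := by decide +kernel
theorem v1o0 : orbErr LM1.nets (subW (stabWs FT iv s1_1) [[0], [2], [4]]) [0, 1, 2, 0, 2, 1, 0] 25 14 48 = 0 := by decide +kernel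
theorem i1_1 {D : Type*} [Group D] [Finite D] (M : Model D) (hM : M.nets = LM1.nets) (h : Nat.card D = 39916800) :
    (clW M.el (stabWs FT iv s1_1)).index ≤ 831600 :=
  index_le_of_card h (show 48 * (1) ≤ _ from
    (M.lev_step (subW_mem _ _ _) (hM ▸ v1f0) (hM ▸ v1o0)
    (M.chain_base _))) (by norm_num)

theorem v2f0 : fixErr LM1.nets (subW (stabWs FT iv s1_2) [[0], [2], [4], [6], [8], [10]]) [] = 0 := by decide +kernel
theorem v2o0 : orbErr LM1.nets (subW (stabWs FT iv s1_2) [[0], [2], [4], [6], [8], [10]]) [0, 1, 2, 3, 4, 5, 0, 2, 1, 4] 256 14 324 = 0 := by decide +kernel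
theorem i1_2 {D : Type*} [Group D] [Finite D] (M : Model D) (hM : M.nets = LM1.nets) (h : Nat.card D = 39916800) :
    (clW M.el (stabWs FT iv s1_2)).index ≤ 123200 :=
  index_le_of_card h (show 324 * (1) ≤ _ from
    (M.lev_step (subW_mem _ _ _) (hM ▸ v2f0) (hM ▸ v2o0)
    (M.chain_base _))) (by norm_num)

theorem v3f0 : fixErr LM1.nets (subW (stabWs FT iv s1_3) [[0], [2], [4]]) [] = 0 := by decide +kernel
theorem v3o0 : orbErr LM1.nets (subW (stabWs FT iv s1_3) [[0], [2], [4]]) [0, 1, 2, 0, 1, 1, 2, 0] 25 14 48 = 0 := by decide +kernel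
theorem i1_3 {D : Type*} [Group D] [Finite D] (M : Model D) (hM : M.nets = LM1.nets) (h : Nat.card D = 39916800) :
    (clW M.el (stabWs FT iv s1_3)).index ≤ 831600 :=
  index_le_of_card h (show 48 * (1) ≤ _ from
    (M.lev_step (subW_mem _ _ _) (hM ▸ v3f0) (hM ▸ v3o0)
    (M.chain_base _))) (by norm_num)

theorem v4f0 : fixErr LM1.nets (subW (stabWs FT iv s1_4) [[0], [2], [4]]) [] = 0 := by decide +kernel
theorem v4o0 : orbErr LM1.nets (subW (stabWs FT iv s1_4) [[0], [2], [4]]) [0, 1, 2, 0, 1, 2, 1] 21 14 30 = 0 := by decide +kernel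
theorem i1_4 {D : Type*} [Group D] [Finite D] (M : Model D) (hM : M.nets = LM1.nets) (h : Nat.card D = 39916800) :
    (clW M.el (stabWs FT iv s1_4)).index ≤ 1330560 :=
  index_le_of_card h (show 30 * (1) ≤ _ from
    (M.lev_step (subW_mem _ _ _) (hM ▸ v4f0) (hM ▸ v4o0)
    (M.chain_base _))) (by norm_num)

theorem v5f0 : fixErr LM1.nets (subW (stabWs FT iv s1_5) [[0], [2], [4], [6]]) [] = 0 := by decide +kernel
theorem v5o0 : orbErr LM1.nets (subW (stabWs FT iv s1_5) [[0], [2], [4], [6]]) [0, 1, 2, 3, 0, 2, 3, 1, 0, 2, 3, 0, 2, 3, 1, 3, 2, 0] 256 14 3168 = 0 := by decide +kernel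
theorem v5f1 : fixErr LM1.nets (subW (stabWs FT iv s1_5) [[2, 0, 6, 1]]) [256] = 0 := by decide +kernel
theorem v5o1 : orbErr LM1.nets (subW (stabWs FT iv s1_5) [[2, 0, 6, 1]]) [0, 0, 0, 0] 0 14 5 = 0 := by decide +kernel
theorem i1_5 {D : Type*} [Group D] [Finite D] (M : Model D) (hM : M.nets = LM1.nets) (h : Nat.card D = 39916800) :
    (clW M.el (stabWs FT iv s1_5)).index ≤ 2520 :=
  index_le_of_card h (show 3168 * (5 * (1)) ≤ _ from
    (M.lev_step (subW_mem _ _ _) (hM ▸ v5f0) (hM ▸ v5o0)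
    (M.lev_step (subW_mem _ _ _) (hM ▸ v5f1) (hM ▸ v5o1)
    (M.chain_base _)))) (by norm_num)

theorem v6f0 : fixErr LM1.nets (subW (stabWs FT iv s1_6) [[0], [2], [4]]) [] = 0 := by decide +kernel
theorem v6o0 : orbErr LM1.nets (subW (stabWs FT iv s1_6) [[0], [2], [4]]) [0, 1, 2, 0, 2] 7 14 16 = 0 := by decide +kernel
theorem i1_6 {D : Type*} [Group D] [Finite D] (M : Model D) (hM : M.nets = LM1.nets) (h : Nat.card D = 39916800) :
    (clW M.el (stabWs FT iv s1_6)).index ≤ 2494800 :=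
  index_le_of_card h (show 16 * (1) ≤ _ from
    (M.lev_step (subW_mem _ _ _) (hM ▸ v6f0) (hM ▸ v6o0)
    (M.chain_base _))) (by norm_num)

theorem v7f0 : fixErr LM1.nets (subW (stabWs FT iv s1_7) [[0], [2]]) [] = 0 := by decide +kernel
theorem v7o0 : orbErr LM1.nets (subW (stabWs FT iv s1_7) [[0], [2]]) [0, 1, 0, 1, 0] 1 14 10 = 0 := by decide +kernel
theorem i1_7 {D : Type*} [Group D] [Finite D] (M : Model D) (hM : M.nets = LM1.nets) (h : Nat.card D = 39916800) :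
    (clW M.el (stabWs FT iv s1_7)).index ≤ 3991680 :=
  index_le_of_card h (show 10 * (1) ≤ _ from
    (M.lev_step (subW_mem _ _ _) (hM ▸ v7f0) (hM ▸ v7o0)
    (M.chain_base _))) (by norm_num)


end Cfsg.Agent.AN.LF
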