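import Cfsg.Agent.AN.LF0
import Cfsg.Agent.AN.LF1
import Cfsg.Agent.AN.LF2

set_option autoImplicit false
set_option Elab.async false
set_option maxRecDepth 100000
set_option exponentiation.threshold 400000

namespace Cfsg.Agent.AN.LF

open Cfsg Cfsg.Agent.H58 Cfsg.Agent.H17

theorem chk_all : ∀ i < 236, chk i = true :=
  (range_cons 236 (range_cons 235 (range_cons 234 (range_cons 233 (range_cons 232 (range_cons 231 (range_cons 230 (range_cons 229 (range_cons 228 (range_cons 227 (range_cons 226 (range_cons 225 (range_cons 224 (range_cons 223 (range_cons 222 (range_cons 221 (range_cons 220 (range_cons 219 (range_cons 218 (range_cons 217 (range_cons 216 (range_cons 215 (range_cons 214 (range_cons 213 (range_cons 212 (range_cons 211 (range_cons 210 (range_cons 209 (range_cons 208 (range_cons 207 (range_cons 206 (range_cons 205 (range_cons 204 (range_cons 203 (range_cons 202 (range_cons 201 (range_cons 200 (range_cons 199 (range_cons 198 (range_cons 197 (range_cons 196 (range_cons 195 (range_cons 194 (range_cons 193 (range_cons 192 (range_cons 191 (range_cons 190 (range_cons 189 (range_cons 188 (range_cons 187 (range_cons 186 (range_cons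 185 (range_cons 184 (range_cons 183 (range_cons 182 (range_cons 181 (range_cons 180 (range_cons 179 (range_cons 178 (range_cons 177 (range_cons 176 (range_cons 175 (range_cons 174 (range_cons 173 (range_cons 172 (range_cons 171 (range_cons 170 (range_cons 169 (range_cons 168 (range_cons 167 (range_cons 166 (range_cons 165 (range_cons 164 (range_cons 163 (range_cons 162 (range_cons 160 (range_cons 159 (range_cons 158 (range_cons 157 (range_cons 156 (range_cons 155 (range_cons 154 (range_cons 153 (range_cons 152 (range_cons 151 (range_cons 150 (range_cons 148 (range_cons 147 (range_cons 146 (range_cons 144 (range_cons 142 (range_cons 141 (range_cons 140 (range_cons 139 (range_cons 138 (range_cons 137 (range_cons 136 (range_cons 135 (range_cons 134 (range_cons 133 (range_cons 132 (range_cons 131 (range_cons 126 (range_cons 125 (range_cons 123 (range_cons 122 (range_cons 121 (range_cons 120 (range_cons 119 (range_cons 117 (range_cons 116 (range_cons 115 (range_cons 114 (range_cons 111 (range_cons 110 (range_cons 109 (range_cons 108 (range_cons 107 (range_cons 106 (range_cons 105 (range_cons 104 (range_cons 103 (range_cons 102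 (range_cons 101 (range_cons 100 (range_cons 95 (range_cons 94 (range_cons 93 (range_cons 92 (range_cons 91 (range_cons 90 (range_cons 89 (range_cons 88 (range_cons 87 (range_cons 86 (range_cons 85 (range_cons 84 (range_cons 83 (range_cons 82 (range_cons 81 (range_cons 80 (range_cons 78 (range_cons 76 (range_cons 75 (range_cons 72 (range_cons 69 (range_cons 67 (range_cons 65 (range_cons 58 (range_cons 54 (range_cons 53 (range_cons 48 (range_cons 47 (range_cons 45 (range_cons 44 (range_cons 42 (range_cons 38 (range_cons 34 (range_cons 32 (range_cons 24 (range_nil _) c0) c1) c2) c3) c4) c5) c6) c7) c8) c9) c10) c11) c12) c13) c14) c15) c16) c17) c18) c19) c20) c21) c22) c23) c24) c25) c26) c27) c28) c29) c30) c31) c32) c33) c34) c35) c36) c37) c38) c39) c40) c41) c42) c43) c44) c45) c46) c47) c48) c49) c50) c51) c52) c53) c54) c55) c56) c57) c58) c59) c60) c61) c62) c63) c64) c65) c66) c67) c68) c69) c70) c71) c72) c73) c74) c75) c76) c77) c78) c79) c80) c81) c82) c83) c84) c85) c86) c87) c88) c89) c90) c91) c92) c93) c94) c95) c96) c97) c98) c99) c100) c101) c102) c103) c104) c105) c106) c107) c108) c109) c110) c111) c112) c113)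 c114) c115) c116) c117) c118) c119) c120) c121) c122) c123) c124) c125) c126) c127) c128) c129) c130) c131) c132) c133) c134) c135) c136) c137) c138) c139) c140) c141) c142) c143) c144) c145) c146) c147) c148) c149) c150) c151) c152) c153) c154) c155) c156) c157) c158) c159)

end Cfsg.Agent.AN.LF
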