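import Cfsg.Agent.AN.LFD

set_option autoImplicit false
set_option Elab.async false
set_option maxRecDepth 100000
set_option exponentiation.threshold 400000

namespace Cfsg.Agent.AN.LF

open Cfsg Cfsg.Agent.H58 Cfsg.Agent.H17

theorem c0 : rangeB chk 0 24 = true := by decide +kernel
theorem c2 : rangeB chk 32 2 = true := by decide +kernel
theorem c4 : rangeB chk 38 4 = true := by decide +kernel
theorem c6 : rangeB chk 44 1 = true := by decide +kernel
theorem c8 : rangeB chk 47 1 = true := by decide +kernel
theorem c10 : rangeB chk 53 1 = true := by decide +kernel
theorem c12 : rangeB chk 58 7 = true := by decide +kernel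
theorem c14 : rangeB chk 67 2 = true := by decide +kernel
theorem c16 : rangeB chk 72 3 = true := by decide +kernel
theorem c18 : rangeB chk 76 2 = true := by decide +kernel
theorem c20 : rangeB chk 80 1 = true := by decide +kernel
theorem c22 : rangeB chk 82 1 = true := by decide +kernel
theorem c24 : rangeB chk 84 1 = true := by decide +kernel
theorem c26 : rangeB chk 86 1 = true := by decide +kernel
theorem c28 : rangeB chk 88 1 = true := by decide +kernel
theorem c30 : rangeB chk 90 1 = true := by decide +kernel
theorem c32 : rangeB chk 92 1 = true := by decide +kernel
theorem c34 : rangeB chk 94 1 = true := by decide +kernel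
theorem c36 : rangeB chk 100 1 = true := by decide +kernel
theorem c38 : rangeB chk 102 1 = true := by decide +kernel
theorem c40 : rangeB chk 104 1 = true := by decide +kernel
theorem c42 : rangeB chk 106 1 = true := by decide +kernel
theorem c44 : rangeB chk 108 1 = true := by decide +kernel
theorem c46 : rangeB chk 110 1 = true := by decide +kernel
theorem c48 : rangeB chk 114 1 = true := by decide +kernel
theorem c50 : rangeB chk 116 1 = true := by decide +kernel
theorem c52 : rangeB chk 119 1 = true := by decide +kernel
theorem c54 : rangeB chk 121 1 = true := by decide +kernel
theorem c56 : rangeB chk 123 2 = true := by decide +kernel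
theorem c58 : rangeB chk 126 5 = true := by decide +kernel
theorem c60 : rangeB chk 132 1 = true := by decide +kernel
theorem c62 : rangeB chk 134 1 = true := by decide +kernel
theorem c64 : rangeB chk 136 1 = true := by decide +kernel
theorem c66 : rangeB chk 138 1 = true := by decide +kernel
theorem c68 : rangeB chk 140 1 = true := by decide +kernel
theorem c70 : rangeB chk 142 2 = true := by decide +kernel
theorem c72 : rangeB chk 146 1 = true := by decide +kernel
theorem c74 : rangeB chk 148 2 = true := by decide +kernel
theorem c76 : rangeB chk 151 1 = true := by decide +kernel
theorem c78 : rangeB chk 153 1 = true := by decide +kernel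
theorem c80 : rangeB chk 155 1 = true := by decide +kernel
theorem c82 : rangeB chk 157 1 = true := by decide +kernel
theorem c84 : rangeB chk 159 1 = true := by decide +kernel
theorem c86 : rangeB chk 162 1 = true := by decide +kernel
theorem c88 : rangeB chk 164 1 = true := by decide +kernel
theorem c90 : rangeB chk 166 1 = true := by decide +kernel
theorem c92 : rangeB chk 168 1 = true := by decide +kernel
theorem c94 : rangeB chk 170 1 = true := by decide +kernel
theorem c96 : rangeB chk 172 1 = true := by decide +kernel
theorem c98 : rangeB chk 174 1 = true := by decide +kernel
theorem c100 : rangeB chk 176 1 = true := by decide +kernel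
theorem c102 : rangeB chk 178 1 = true := by decide +kernel
theorem c104 : rangeB chk 180 1 = true := by decide +kernel
theorem c106 : rangeB chk 182 1 = true := by decide +kernel
theorem c108 : rangeB chk 184 1 = true := by decide +kernel
theorem c110 : rangeB chk 186 1 = true := by decide +kernel
theorem c112 : rangeB chk 188 1 = true := by decide +kernel
theorem c114 : rangeB chk 190 1 = true := by decide +kernel
theorem c116 : rangeB chk 192 1 = true := by decide +kernel
theorem c118 : rangeB chk 194 1 = true := by decide +kernel
theorem c120 : rangeB chk 196 1 = true := by decide +kernel
theorem c122 : rangeB chk 198 1 = true := by decide +kernel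
theorem c124 : rangeB chk 200 1 = true := by decide +kernel
theorem c126 : rangeB chk 202 1 = true := by decide +kernel
theorem c128 : rangeB chk 204 1 = true := by decide +kernel
theorem c130 : rangeB chk 206 1 = true := by decide +kernel
theorem c132 : rangeB chk 208 1 = true := by decide +kernel
theorem c134 : rangeB chk 210 1 = true := by decide +kernel
theorem c136 : rangeB chk 212 1 = true := by decide +kernel
theorem c138 : rangeB chk 214 1 = true := by decide +kernel
theorem c140 : rangeB chk 216 1 = true := by decide +kernel
theorem c142 : rangeB chk 218 1 = true := by decide +kernel
theorem c144 : rangeB chk 220 1 = true := by decide +kernel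
theorem c146 : rangeB chk 222 1 = true := by decide +kernel
theorem c148 : rangeB chk 224 1 = true := by decide +kernel
theorem c150 : rangeB chk 226 1 = true := by decide +kernel
theorem c152 : rangeB chk 228 1 = true := by decide +kernel
theorem c154 : rangeB chk 230 1 = true := by decide +kernel
theorem c156 : rangeB chk 232 1 = true := by decide +kernel
theorem c158 : rangeB chk 234 1 = true := by decide +kernel

end Cfsg.Agent.AN.LF
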