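import Cfsg.Agent.H17.DCEModel
import Cfsg.Agent.AN.Mod.LM0D
import Cfsg.Agent.AN.Mod.LM1

set_option autoImplicit false
set_option Elab.async false
set_option maxRecDepth 100000
set_option exponentiation.threshold 400000

namespace Cfsg.Agent.AN.LF

open Cfsg Cfsg.Agent.H58 Cfsg.Agent.H17

def iv : ℕ := 3688918921700358914580544

/-- the relators: those of `3.McL:2`, those of `2.A₁₁`, and one more -/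
def rels : List (List ℕ) := LM0.rels ++ [[12, 12, 12],
  [4, 12, 4, 12],
  [3, 12, 3, 12],
  [1, 2, 12, 2, 1, 12],
  [1, 3, 1, 5, 6, 12, 6, 5, 1, 3, 1, 13],
  [1, 3, 2, 5, 6, 12, 6, 5, 2, 3, 1, 13],
  [10, 8, 11, 12, 10, 9, 11, 12],
  [12, 10, 12, 11, 12, 10, 12, 11, 1, 2, 1, 2],
  [12, 2, 5, 6, 1, 3, 12, 2, 5, 6, 1, 3, 1, 2, 1, 2],
  [9, 12, 10, 13, 11, 12],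
  [12, 6, 10, 13, 1, 10, 12, 6, 1, 7, 2, 5, 6, 4, 6, 5, 2, 7, 1, 6, 13, 11, 1, 12, 11, 6, 13, 7, 2, 5, 6, 4, 6, 5, 2, 7]]

def LW : List (List ℕ) := [[], [], [13], [13, 7], [13, 10, 13, 9, 1, 13], [13, 10, 13, 9, 1, 13, 5, 7], [13, 10, 13, 9, 1, 13, 7], [13, 10, 13, 9, 1, 13, 7, 4, 6, 5, 7], [12, 9, 13], [12, 9, 13, 7], [12, 9, 13, 5, 7], [13, 7, 6, 5, 7], [13, 10, 13, 9, 1, 13, 7, 4, 6, 5, 7, 12, 10, 1, 13, 9, 5, 13]]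

noncomputable def FT0 : ℕ → Fct := (ndA (nat_lit 8) (ndA (nat_lit 4) (ndA (nat_lit 2) (ndA (nat_lit 1) (lfA (⟨0, [1], 0, []⟩ : Fct)) (lfA (⟨0, [2], 0, []⟩ : Fct))) (ndA (nat_lit 3) (lfA (⟨0, [3], 0, []⟩ : Fct)) (lfA (⟨0, [4], 0, []⟩ : Fct)))) (ndA (nat_lit 6) (ndA (nat_lit 5) (lfA (⟨0, [5], 0, []⟩ : Fct)) (lfA (⟨0, [6], 0, []⟩ : Fct))) (ndA (nat_lit 7) (lfA (⟨0, [7], 0, []⟩ : Fct)) (lfA (⟨0, [8], 0, []⟩ : Fct))))) (ndA (nat_lit 12) (ndA (nat_lit 10) (ndA (nat_lit 9) (lfA (⟨0, [], 1, []⟩ : Fct)) (lfA (⟨1, [1], 1, []⟩ : Fct))) (ndA (nat_lit 11) (lfA (⟨1, [2], 1, []⟩ : Fct)) (lfA (⟨1, [3], 1, []⟩ : Fct)))) (ndA (nat_lit 14) (ndA (nat_lit 13) (lfA (⟨1, [4], 1, []⟩ : Fct)) (lfA (⟨1, [5], 1, []⟩ : Fct)))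 (ndA (nat_lit 15) (lfA (⟨1, [6], 1, []⟩ : Fct)) (lfA (⟨1, [8], 1, []⟩ : Fct))))))
noncomputable def FT1 : ℕ → Fct := (ndA (nat_lit 24) (ndA (nat_lit 20) (ndA (nat_lit 18) (ndA (nat_lit 17) (lfA (⟨1, [3, 4, 11], 1, []⟩ : Fct)) (lfA (⟨1, [13], 2, []⟩ : Fct))) (ndA (nat_lit 19) (lfA (⟨2, [4, 3], 2, []⟩ : Fct)) (lfA (⟨2, [1, 2, 3], 2, []⟩ : Fct)))) (ndA (nat_lit 22) (ndA (nat_lit 21) (lfA (⟨2, [1, 2, 3, 5, 1], 2, []⟩ : Fct)) (lfA (⟨2, [1, 2, 3, 2, 6], 2, []⟩ : Fct))) (ndA (nat_lit 23) (lfA (⟨2, [3, 4, 3, 8, 10], 2, []⟩ : Fct)) (lfA (⟨2, [7], 3, []⟩ : Fct))))) (ndA (nat_lit 28) (ndA (nat_lit 26) (ndA (nat_lit 25) (lfA (⟨3, [3, 4, 11], 3, []⟩ : Fct)) (lfA (⟨3, [3, 4, 3, 8, 10], 3, []⟩ : Fct))) (ndA (nat_lit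 27) (lfA (⟨3, [2, 4, 3, 1, 2, 10], 3, []⟩ : Fct)) (lfA (⟨1, [13, 10, 13, 9, 1, 13], 4, []⟩ : Fct)))) (ndA (nat_lit 30) (ndA (nat_lit 29) (lfA (⟨4, [1, 2, 9, 10], 4, []⟩ : Fct)) (lfA (⟨4, [2, 1, 4], 4, []⟩ : Fct))) (ndA (nat_lit 31) (lfA (⟨4, [3, 1, 4, 3, 5, 6, 2, 4, 3], 4, []⟩ : Fct)) (lfA (⟨4, [5, 6, 9, 6, 5, 10], 4, []⟩ : Fct))))))
noncomputable def FT2 : ℕ → Fct := (ndA (nat_lit 40) (ndA (nat_lit 36) (ndA (nat_lit 34) (ndA (nat_lit 33) (lfA (⟨4, [2, 4, 6, 8, 6, 4, 5, 8, 5, 2, 11], 4, []⟩ : Fct)) (lfA (⟨1, [3, 5, 2, 4, 5, 8, 5, 4, 6, 4, 12, 2, 8, 12, 6, 11, 13], 4, [2, 3, 4, 5, 4, 6, 1, 4, 3, 2, 10, 7, 5, 6, 4, 6, 5, 2, 7]⟩ : Fct))) (ndA (nat_lit 35) (lfA (⟨1, [3, 5, 2, 4, 5, 8, 5, 4, 6, 4, 12,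 2, 8, 12, 6, 11, 13], 4, [2, 3, 4, 5, 4, 6, 1, 4, 3, 2, 10, 7, 5, 6, 4, 6, 5, 2, 7]⟩ : Fct)) (lfA (⟨4, [1, 3, 5, 2, 4, 6, 5, 9, 10, 7, 5, 6, 4, 5, 6, 8, 7, 5, 2], 4, []⟩ : Fct)))) (ndA (nat_lit 38) (ndA (nat_lit 37) (lfA (⟨4, [5, 7], 5, []⟩ : Fct)) (lfA (⟨5, [1, 5, 2, 3, 1, 3, 2, 5], 5, []⟩ : Fct))) (ndA (nat_lit 39) (lfA (⟨5, [10], 5, []⟩ : Fct)) (lfA (⟨5, [1, 4, 3, 1, 2, 3, 8, 11], 5, []⟩ : Fct))))) (ndA (nat_lit 44) (ndA (nat_lit 42) (ndA (nat_lit 41) (lfA (⟨5, [3, 4, 3, 8, 11], 5, []⟩ : Fct)) (lfA (⟨5, [1, 3, 2, 5, 4, 6, 5, 4, 6, 5], 5, []⟩ : Fct))) (ndA (nat_lit 43) (lfA (⟨2, [2, 5, 6, 4, 5, 6, 10, 7, 5, 6, 4, 6, 5, 2, 7], 5, [13, 10, 6, 13, 9, 2, 13, 11, 2, 5, 4, 2, 1]⟩ : Fct)) (lfA (⟨2, [2,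 5, 6, 4, 5, 6, 10, 7, 5, 6, 4, 6, 5, 2, 7], 5, [13, 10, 6, 13, 9, 2, 13, 11, 2, 5, 4, 2, 1]⟩ : Fct)))) (ndA (nat_lit 46) (ndA (nat_lit 45) (lfA (⟨4, [5, 6, 7, 5, 1, 6, 7, 6, 5, 7, 10, 6, 2, 5, 9, 4, 6, 9, 6], 5, [12, 10, 5, 12, 9, 1, 13, 11, 2, 5, 2, 6, 4, 1, 6]⟩ : Fct)) (lfA (⟨4, [5, 6, 7, 5, 1, 6, 7, 6, 5, 7, 10, 6, 2, 5, 9, 4, 6, 9, 6], 5, [12, 10, 5, 12, 9, 1, 13, 11, 2, 5, 2, 6, 4, 1, 6]⟩ : Fct))) (ndA (nat_lit 47) (lfA (⟨5, [1, 3, 2, 4, 3, 9, 6, 11, 12, 2, 8, 13, 6, 11, 12], 5, []⟩ : Fct)) (lfA (⟨2, [1, 5, 8, 5, 4, 5, 6, 4, 9, 7, 5, 6, 4, 6, 7, 5, 1, 4, 6, 7, 4], 3, [3, 1, 2, 4, 5, 6, 4, 3, 5, 2, 9, 12, 2, 8, 12, 6, 11, 13]⟩ : Fct))))))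
noncomputable def FT3 : ℕ → Fct := (ndA (nat_lit 56) (ndA (nat_lit 52) (ndA (nat_lit 50) (ndA (nat_lit 49) (lfA (⟨2, [1, 5, 8, 5, 4, 5, 6, 4, 9, 7, 5, 6, 4, 6, 7, 5, 1, 4, 6, 7, 4], 3, [3, 1, 2, 4, 5, 6, 4, 3, 5, 2, 9, 12, 2, 8, 12, 6, 11, 13]⟩ : Fct)) (lfA (⟨4, [7], 6, []⟩ : Fct))) (ndA (nat_lit 51) (lfA (⟨6, [3, 8], 6, []⟩ : Fct)) (lfA (⟨6, [1, 6, 8, 5, 9], 6, []⟩ : Fct)))) (ndA (nat_lit 54) (ndA (nat_lit 53) (lfA (⟨6, [10], 6, []⟩ : Fct)) (lfA (⟨6, [13, 10, 13, 9, 5, 1, 13, 11, 6, 4, 5, 6, 4, 2, 6], 2, [7, 9, 7, 5, 6, 7, 6, 5, 7, 4, 6, 5, 9, 2, 5, 4, 5, 3]⟩ : Fct))) (ndA (nat_lit 55) (lfA (⟨6, [13, 10, 13, 9, 5, 1, 13, 11, 6, 4, 5, 6, 4, 2, 6], 2, [7, 9, 7, 5, 6, 7, 6, 5, 7, 4, 6, 5, 9, 2, 5,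 4, 5, 3]⟩ : Fct)) (lfA (⟨4, [7, 4, 6, 5, 7], 7, []⟩ : Fct))))) (ndA (nat_lit 60) (ndA (nat_lit 58) (ndA (nat_lit 57) (lfA (⟨7, [10], 7, []⟩ : Fct)) (lfA (⟨7, [1, 2, 5, 4, 6, 4, 5, 9, 10], 7, []⟩ : Fct))) (ndA (nat_lit 59) (lfA (⟨7, [8, 5, 6, 4, 5, 9, 5, 6, 4], 7, []⟩ : Fct)) (lfA (⟨1, [12, 9, 13], 8, []⟩ : Fct)))) (ndA (nat_lit 62) (ndA (nat_lit 61) (lfA (⟨8, [1, 2, 9], 8, []⟩ : Fct)) (lfA (⟨8, [3, 8], 8, []⟩ : Fct))) (ndA (nat_lit 63) (lfA (⟨8, [4, 8], 8, []⟩ : Fct)) (lfA (⟨8, [9], 8, []⟩ : Fct))))))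
noncomputable def FT4 : ℕ → Fct := (ndA (nat_lit 72) (ndA (nat_lit 68) (ndA (nat_lit 66) (ndA (nat_lit 65) (lfA (⟨8, [5, 8, 5, 9], 8, []⟩ : Fct)) (lfA (⟨8, [3, 2, 4, 8, 6, 5, 4, 6, 11, 7, 5, 6, 4, 6, 5, 2, 7], 7, [5, 12, 10, 6, 12, 9, 13, 11, 6, 9, 3, 4, 5, 1, 6, 2]⟩ : Fct))) (ndA (nat_lit 67) (lfA (⟨8, [3, 2, 4, 8, 6, 5, 4, 6, 11, 7, 5, 6, 4, 6, 5, 2, 7], 7, [5, 12, 10, 6, 12, 9, 13, 11, 6, 9, 3, 4, 5, 1, 6, 2]⟩ : Fct)) (lfA (⟨6, [4, 5, 6, 4, 3, 11, 12, 2, 8, 12, 6, 11, 13], 8, [1, 5, 4, 3, 1, 2, 6, 1, 4, 7, 5, 6, 4, 6, 5, 2, 7]⟩ : Fct)))) (ndA (nat_lit 70) (ndA (nat_lit 69) (lfA (⟨6, [4, 5, 6, 4, 3, 11, 12, 2, 8, 12, 6, 11, 13], 8, [1, 5, 4, 3, 1, 2, 6, 1, 4, 7, 5, 6, 4, 6, 5, 2, 7]⟩ : Fct)) (lfA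 (⟨5, [3, 1, 6, 5, 4, 6, 5, 4, 9, 11, 12, 2, 8, 12, 6, 11, 13], 8, [6, 8, 6, 4, 9, 7, 5, 6, 4, 6, 5, 2, 7]⟩ : Fct))) (ndA (nat_lit 71) (lfA (⟨5, [3, 1, 6, 5, 4, 6, 5, 4, 9, 11, 12, 2, 8, 12, 6, 11, 13], 8, [6, 8, 6, 4, 9, 7, 5, 6, 4, 6, 5, 2, 7]⟩ : Fct)) (lfA (⟨8, [7], 9, []⟩ : Fct))))) (ndA (nat_lit 76) (ndA (nat_lit 74) (ndA (nat_lit 73) (lfA (⟨9, [4, 8, 10], 9, []⟩ : Fct)) (lfA (⟨9, [3, 8, 11], 9, []⟩ : Fct))) (ndA (nat_lit 75) (lfA (⟨9, [2, 3, 1, 3], 9, []⟩ : Fct)) (lfA (⟨8, [1, 3, 2, 1, 4, 5, 6, 4, 6, 5, 2, 7, 6, 5, 4, 6, 5, 8], 9, [3, 2, 1, 5, 6, 11, 12, 2, 8, 12, 6, 11, 13]⟩ : Fct)))) (ndA (nat_lit 78) (ndA (nat_lit 77) (lfA (⟨8, [1, 3, 2, 1, 4, 5, 6, 4, 6, 5, 2, 7, 6, 5, 4, 6, 5, 8], 9, [3,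 2, 1, 5, 6, 11, 12, 2, 8, 12, 6, 11, 13]⟩ : Fct)) (lfA (⟨9, [12, 10, 6, 12, 9, 2, 13, 1, 6, 2, 5, 1], 9, []⟩ : Fct))) (ndA (nat_lit 79) (lfA (⟨7, [2, 3, 1, 2, 5, 6, 4, 8, 10, 12, 5, 8, 12], 8, [4, 6, 1, 4, 3, 1, 2, 10, 7, 5, 2, 4, 6, 1, 4, 7]⟩ : Fct)) (lfA (⟨7, [2, 3, 1, 2, 5, 6, 4, 8, 10, 12, 5, 8, 12], 8, [4, 6, 1, 4, 3, 1, 2, 10, 7, 5, 2, 4, 6, 1, 4, 7]⟩ : Fct))))))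
noncomputable def FT5 : ℕ → Fct := (ndA (nat_lit 88) (ndA (nat_lit 84) (ndA (nat_lit 82) (ndA (nat_lit 81) (lfA (⟨8, [5, 2, 4, 3, 2, 1, 5, 10, 7, 5, 4, 6, 1, 7, 5, 8, 7, 8, 6, 7], 7, [11, 1, 13, 10, 4, 1, 5, 6, 4, 6, 2, 3, 2]⟩ : Fct)) (lfA (⟨8, [5, 2, 4, 3, 2, 1, 5, 10, 7, 5, 4, 6, 1, 7, 5, 8, 7, 8, 6, 7], 7, [11, 1, 13, 10, 4, 1, 5, 6, 4, 6, 2, 3, 2]⟩ : Fct))) (ndA (nat_lit 83) (lfA (⟨7, [2, 3, 2, 4, 5, 4, 6, 8, 6, 12, 1, 5, 10], 8, [3, 2, 1, 4, 3, 5, 2, 4, 10, 7, 5, 4, 5, 6, 7, 6, 5, 2, 4, 6, 7]⟩ : Fct)) (lfA (⟨7, [2, 3, 2, 4, 5, 4, 6, 8, 6, 12, 1, 5, 10], 8, [3, 2, 1, 4, 3, 5, 2, 4, 10, 7, 5, 4, 5, 6, 7, 6, 5, 2, 4, 6, 7]⟩ : Fct)))) (ndA (nat_lit 86) (ndA (nat_lit 85) (lfA (⟨8, [4, 6, 5, 10,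 7, 5, 6, 4, 6, 5, 7, 6, 5, 2, 7, 4], 6, [1, 3, 1, 4, 5, 2, 6, 1, 5, 4, 3, 12, 8, 13, 1]⟩ : Fct)) (lfA (⟨8, [4, 6, 5, 10, 7, 5, 6, 4, 6, 5, 7, 6, 5, 2, 7, 4], 6, [1, 3, 1, 4, 5, 2, 6, 1, 5, 4, 3, 12, 8, 13, 1]⟩ : Fct))) (ndA (nat_lit 87) (lfA (⟨8, [8, 5, 2, 4, 6, 5, 9, 11, 7, 5, 4, 6, 7, 1, 8, 5, 6, 7, 3, 5], 5, [12, 9, 13, 10, 5, 8, 3, 4, 5, 1, 6, 2, 5, 4, 3]⟩ : Fct)) (lfA (⟨8, [8, 5, 2, 4, 6, 5, 9, 11, 7, 5, 4, 6, 7, 1, 8, 5, 6, 7, 3, 5], 5, [12, 9, 13, 10, 5, 8, 3, 4, 5, 1, 6, 2, 5, 4, 3]⟩ : Fct))))) (ndA (nat_lit 92) (ndA (nat_lit 90) (ndA (nat_lit 89) (lfA (⟨7, [1, 6, 4, 3, 8, 5, 11, 12, 1, 5, 10, 13], 2, [2, 3, 6, 5, 1, 4, 10, 7, 5, 6, 7, 6, 5, 7, 5, 6, 4, 6, 7]⟩ : Fct)) (lfA (⟨7, [1, 6, 4,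 3, 8, 5, 11, 12, 1, 5, 10, 13], 2, [2, 3, 6, 5, 1, 4, 10, 7, 5, 6, 7, 6, 5, 7, 5, 6, 4, 6, 7]⟩ : Fct))) (ndA (nat_lit 91) (lfA (⟨2, [3, 1, 2, 4, 3, 6, 2, 7, 5, 6, 4, 7, 5, 4, 6, 7, 6, 1], 7, [10, 12, 9, 1, 13, 3, 2, 5, 9, 4, 6, 9, 6, 2]⟩ : Fct)) (lfA (⟨2, [3, 1, 2, 4, 3, 6, 2, 7, 5, 6, 4, 7, 5, 4, 6, 7, 6, 1], 7, [10, 12, 9, 1, 13, 3, 2, 5, 9, 4, 6, 9, 6, 2]⟩ : Fct)))) (ndA (nat_lit 94) (ndA (nat_lit 93) (lfA (⟨3, [12, 11, 2, 13, 11, 5, 3, 4, 2, 5, 6, 2], 8, [7, 6, 5, 4, 2, 6, 5, 7, 6, 5, 7, 10, 5, 6, 4, 1, 6, 8, 1]⟩ : Fct)) (lfA (⟨3, [12, 11, 2, 13, 11, 5, 3, 4, 2, 5, 6, 2], 8, [7, 6, 5, 4, 2, 6, 5, 7, 6, 5, 7, 10, 5, 6, 4, 1, 6, 8, 1]⟩ : Fct))) (ndA (nat_lit 95) (lfA (⟨8, [3, 6, 8, 6, 4, 5, 1,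 6, 11, 7, 5, 6, 7, 5, 6, 1, 4, 9, 7], 3, [3, 2, 4, 6, 5, 4, 6, 1, 8, 12, 2, 6, 8, 12]⟩ : Fct)) (lfA (⟨8, [3, 6, 8, 6, 4, 5, 1, 6, 11, 7, 5, 6, 7, 5, 6, 1, 4, 9, 7], 3, [3, 2, 4, 6, 5, 4, 6, 1, 8, 12, 2, 6, 8, 12]⟩ : Fct))))))
noncomputable def FT6 : ℕ → Fct := (ndA (nat_lit 104) (ndA (nat_lit 100) (ndA (nat_lit 98) (ndA (nat_lit 97) (lfA (⟨8, [5, 7], 10, []⟩ : Fct)) (lfA (⟨10, [4, 8, 10], 10, []⟩ : Fct))) (ndA (nat_lit 99) (lfA (⟨10, [1, 5, 2, 3, 1, 3, 2, 5], 10, []⟩ : Fct)) (lfA (⟨10, [2, 6, 8, 5, 9], 10, []⟩ : Fct)))) (ndA (nat_lit 102) (ndA (nat_lit 101) (lfA (⟨10, [13, 10, 1, 13, 9, 5, 1, 13, 4, 1, 2, 6, 5, 4, 5, 2], 8, [6, 3, 7, 6, 7, 5, 9, 7, 6, 5, 7, 11, 8, 6, 9, 2, 5, 9]⟩ : Fct)) (lfA (⟨10,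 [13, 10, 1, 13, 9, 5, 1, 13, 4, 1, 2, 6, 5, 4, 5, 2], 8, [6, 3, 7, 6, 7, 5, 9, 7, 6, 5, 7, 11, 8, 6, 9, 2, 5, 9]⟩ : Fct))) (ndA (nat_lit 103) (lfA (⟨8, [7, 9, 5, 6, 7, 5, 4, 6, 4, 5, 7, 1, 5, 3, 4, 2, 5, 6, 9], 10, [1, 3, 2, 4, 5, 2, 6, 4, 6, 12, 1, 5, 10, 12]⟩ : Fct)) (lfA (⟨8, [7, 9, 5, 6, 7, 5, 4, 6, 4, 5, 7, 1, 5, 3, 4, 2, 5, 6, 9], 10, [1, 3, 2, 4, 5, 2, 6, 4, 6, 12, 1, 5, 10, 12]⟩ : Fct))))) (ndA (nat_lit 108) (ndA (nat_lit 106) (ndA (nat_lit 105) (lfA (⟨10, [1, 2, 8, 5, 4, 6, 5, 1, 4, 5, 11, 12, 2, 6, 10, 12], 8, [1, 6, 7, 5, 3, 7, 6, 3, 7, 10, 4, 2, 6, 1, 3]⟩ : Fct)) (lfA (⟨10, [1, 2, 8, 5, 4, 6, 5, 1, 4, 5, 11, 12, 2, 6, 10, 12], 8, [1, 6, 7, 5, 3, 7, 6, 3, 7, 10, 4, 2, 6, 1, 3]⟩ : Fct)))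 (ndA (nat_lit 107) (lfA (⟨10, [6, 8, 5, 6, 2, 5, 4, 3, 12, 1, 5, 8, 13, 11], 8, [2, 4, 5, 6, 1, 3, 4, 3, 7, 3, 5, 4, 6, 7, 6, 5, 7, 6, 1, 4]⟩ : Fct)) (lfA (⟨10, [6, 8, 5, 6, 2, 5, 4, 3, 12, 1, 5, 8, 13, 11], 8, [2, 4, 5, 6, 1, 3, 4, 3, 7, 3, 5, 4, 6, 7, 6, 5, 7, 6, 1, 4]⟩ : Fct)))) (ndA (nat_lit 110) (ndA (nat_lit 109) (lfA (⟨10, [6, 13, 4, 5, 6, 5, 1, 3], 8, [8, 6, 1, 3, 2, 4, 8, 5, 7, 6, 5, 4, 6, 7, 5, 4, 6, 2, 7]⟩ : Fct)) (lfA (⟨10, [6, 13, 4, 5, 6, 5, 1, 3], 8, [8, 6, 1, 3, 2, 4, 8, 5, 7, 6, 5, 4, 6, 7, 5, 4, 6, 2, 7]⟩ : Fct))) (ndA (nat_lit 111) (lfA (⟨10, [10, 12, 9, 2, 13, 11, 4, 3, 2, 5, 6, 4, 5, 6, 9, 2], 2, [1, 2, 5, 8, 5, 4, 6, 2, 3, 1, 10, 7, 5, 6, 1, 7, 6, 4, 5, 7, 6, 7]⟩ : Fct)) (lfA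 (⟨10, [10, 12, 9, 2, 13, 11, 4, 3, 2, 5, 6, 4, 5, 6, 9, 2], 2, [1, 2, 5, 8, 5, 4, 6, 2, 3, 1, 10, 7, 5, 6, 1, 7, 6, 4, 5, 7, 6, 7]⟩ : Fct))))))
noncomputable def FT7 : ℕ → Fct := (ndA (nat_lit 120) (ndA (nat_lit 116) (ndA (nat_lit 114) (ndA (nat_lit 113) (lfA (⟨2, [7, 6, 5, 7], 11, []⟩ : Fct)) (lfA (⟨11, [2, 4, 3, 1, 2, 3, 9, 10], 11, []⟩ : Fct))) (ndA (nat_lit 115) (lfA (⟨11, [6, 12, 10, 5, 12, 9, 13, 9, 2, 5, 3, 4, 6, 4, 5], 8, [1, 6, 5, 4, 9, 6, 4, 5, 2, 7, 5, 4, 6, 7, 1, 8, 5, 6, 7, 5, 6]⟩ : Fct)) (lfA (⟨11, [6, 12, 10, 5, 12, 9, 13, 9, 2, 5, 3, 4, 6, 4, 5], 8, [1, 6, 5, 4, 9, 6, 4, 5, 2, 7, 5, 4, 6, 7, 1, 8, 5, 6, 7, 5, 6]⟩ : Fct)))) (ndA (nat_lit 118) (ndA (nat_lit 117) (lfA (⟨8, [6, 1, 4,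 6, 2, 5, 7, 6, 4, 5, 7, 6, 7, 6, 4], 11, [4, 5, 4, 3, 1, 6, 4, 5, 2, 10, 12, 2, 8, 12, 6, 11, 13]⟩ : Fct)) (lfA (⟨8, [6, 1, 4, 6, 2, 5, 7, 6, 4, 5, 7, 6, 7, 6, 4], 11, [4, 5, 4, 3, 1, 6, 4, 5, 2, 10, 12, 2, 8, 12, 6, 11, 13]⟩ : Fct))) (ndA (nat_lit 119) (lfA (⟨2, [7, 5, 4, 6, 7, 5, 6, 4, 6, 4, 5, 7, 5, 9, 6, 4], 11, [1, 3, 6, 2, 5, 4, 3, 10, 12, 2, 8, 12, 6, 11, 13]⟩ : Fct)) (lfA (⟨2, [7, 5, 4, 6, 7, 5, 6, 4, 6, 4, 5, 7, 5, 9, 6, 4], 11, [1, 3, 6, 2, 5, 4, 3, 10, 12, 2, 8, 12, 6, 11, 13]⟩ : Fct))))) (ndA (nat_lit 124) (ndA (nat_lit 122) (ndA (nat_lit 121) (lfA (⟨11, [3, 4, 5, 6, 2, 4, 3, 10, 12, 2, 8, 12, 6, 11, 13], 8, [2, 6, 5, 2, 4, 6, 1, 5, 11, 7, 5, 2, 6, 4, 3, 7, 6, 5, 4, 3]⟩ : Fct)) (lfA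 (⟨11, [3, 4, 5, 6, 2, 4, 3, 10, 12, 2, 8, 12, 6, 11, 13], 8, [2, 6, 5, 2, 4, 6, 1, 5, 11, 7, 5, 2, 6, 4, 3, 7, 6, 5, 4, 3]⟩ : Fct))) (ndA (nat_lit 123) (lfA (⟨2, [3, 1, 5, 4, 11, 7, 5, 4, 6, 7, 5, 6, 1, 4, 7, 6, 9], 11, [5, 2, 8, 6, 5, 4, 9, 5, 6, 11, 12, 2, 8, 12, 11]⟩ : Fct)) (lfA (⟨2, [3, 1, 5, 4, 11, 7, 5, 4, 6, 7, 5, 6, 1, 4, 7, 6, 9], 11, [5, 2, 8, 6, 5, 4, 9, 5, 6, 11, 12, 2, 8, 12, 11]⟩ : Fct)))) (ndA (nat_lit 126) (ndA (nat_lit 125) (lfA (⟨11, [2, 3, 2, 8, 12, 8, 13, 5, 6], 11, []⟩ : Fct)) (lfA (⟨11, [5, 8, 5, 2, 9, 6, 4, 5, 11, 12, 1, 8, 13, 5, 11], 8, [2, 5, 6, 2, 4, 6, 1, 11, 7, 5, 4, 6, 7, 5, 2, 6, 7, 4, 6]⟩ : Fct))) (ndA (nat_lit 127) (lfA (⟨11, [5, 8, 5, 2, 9, 6, 4, 5, 11, 12, 1,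 8, 13, 5, 11], 8, [2, 5, 6, 2, 4, 6, 1, 11, 7, 5, 4, 6, 7, 5, 2, 6, 7, 4, 6]⟩ : Fct)) (lfA (⟨7, [12, 10, 1, 13, 9, 5, 13], 12, []⟩ : Fct))))))
noncomputable def FT8 : ℕ → Fct := (ndA (nat_lit 136) (ndA (nat_lit 132) (ndA (nat_lit 130) (ndA (nat_lit 129) (lfA (⟨12, [1, 4, 6, 8, 6, 4, 5, 2, 9, 5], 12, []⟩ : Fct)) (lfA (⟨12, [2, 5, 2, 4, 6, 8, 6, 4, 11], 12, []⟩ : Fct))) (ndA (nat_lit 131) (lfA (⟨12, [2, 4, 5, 4, 6, 8, 6, 8], 12, []⟩ : Fct)) (lfA (⟨12, [5, 6, 4, 5, 2, 8, 5, 2, 3, 1, 7, 5, 6, 4, 6, 5, 2, 7], 6, [5, 2, 6, 9, 6, 4, 3, 6, 1, 11, 12, 2, 8, 12, 6, 11, 13]⟩ : Fct)))) (ndA (nat_lit 134) (ndA (nat_lit 133) (lfA (⟨12, [5, 6, 4, 5, 2, 8, 5, 2, 3, 1, 7, 5, 6, 4, 6, 5, 2, 7], 6, [5, 2, 6, 9, 6,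 4, 3, 6, 1, 11, 12, 2, 8, 12, 6, 11, 13]⟩ : Fct)) (lfA (⟨7, [13, 10, 13, 9, 6, 2, 13, 10, 2, 5, 4, 3, 1, 6, 8, 2], 12, [2, 6, 1, 4, 6, 8, 6, 11, 7, 5, 6, 4, 6, 5, 2, 7]⟩ : Fct))) (ndA (nat_lit 135) (lfA (⟨7, [13, 10, 13, 9, 6, 2, 13, 10, 2, 5, 4, 3, 1, 6, 8, 2], 12, [2, 6, 1, 4, 6, 8, 6, 11, 7, 5, 6, 4, 6, 5, 2, 7]⟩ : Fct)) (lfA (⟨7, [13, 10, 5, 12, 9, 13, 11, 9, 6, 9, 2, 5, 3, 4, 1], 12, [3, 4, 5, 6, 1, 8, 5, 9, 11, 7, 5, 6, 4, 6, 5, 2, 7]⟩ : Fct))))) (ndA (nat_lit 140) (ndA (nat_lit 138) (ndA (nat_lit 137) (lfA (⟨7, [13, 10, 5, 12, 9, 13, 11, 9, 6, 9, 2, 5, 3, 4, 1], 12, [3, 4, 5, 6, 1, 8, 5, 9, 11, 7, 5, 6, 4, 6, 5, 2, 7]⟩ : Fct)) (lfA (⟨12, [9, 7, 2, 5, 6, 7, 5, 6, 7, 3, 2, 5, 1, 6, 9, 4, 6,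 2], 7, [1, 6, 1, 9, 6, 1, 4, 3, 2, 11, 12, 1, 8, 12, 5, 11, 12]⟩ : Fct))) (ndA (nat_lit 139) (lfA (⟨12, [9, 7, 2, 5, 6, 7, 5, 6, 7, 3, 2, 5, 1, 6, 9, 4, 6, 2], 7, [1, 6, 1, 9, 6, 1, 4, 3, 2, 11, 12, 1, 8, 12, 5, 11, 12]⟩ : Fct)) (lfA (⟨12, [4, 3, 6, 8, 6, 4, 6, 5, 9, 11, 7, 6, 5, 7, 5, 6, 7, 5, 2, 6], 6, [3, 2, 5, 4, 6, 1, 5, 11, 12, 1, 8, 12, 5, 11, 12]⟩ : Fct)))) (ndA (nat_lit 142) (ndA (nat_lit 141) (lfA (⟨12, [4, 3, 6, 8, 6, 4, 6, 5, 9, 11, 7, 6, 5, 7, 5, 6, 7, 5, 2, 6], 6, [3, 2, 5, 4, 6, 1, 5, 11, 12, 1, 8, 12, 5, 11, 12]⟩ : Fct)) (lfA (⟨6, [12, 10, 5, 12, 9, 13, 10, 1, 3, 2, 5, 8, 4, 2], 12, [3, 4, 5, 7, 5, 6, 7, 6, 5, 7, 6, 4, 1, 6, 5, 8, 4, 1]⟩ : Fct))) (ndA (nat_lit 143) (lfA (⟨6, [12,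 10, 5, 12, 9, 13, 10, 1, 3, 2, 5, 8, 4, 2], 12, [3, 4, 5, 7, 5, 6, 7, 6, 5, 7, 6, 4, 1, 6, 5, 8, 4, 1]⟩ : Fct)) (lfA (⟨5, [3, 2, 4, 6, 1, 9, 6, 1, 11, 12, 2, 8, 12, 6, 11, 13], 12, [1, 6, 1, 4, 9, 5, 10, 7, 5, 6, 4, 6, 5, 2, 7]⟩ : Fct))))))
noncomputable def FT9 : ℕ → Fct := (ndA (nat_lit 152) (ndA (nat_lit 148) (ndA (nat_lit 146) (ndA (nat_lit 145) (lfA (⟨5, [3, 2, 4, 6, 1, 9, 6, 1, 11, 12, 2, 8, 12, 6, 11, 13], 12, [1, 6, 1, 4, 9, 5, 10, 7, 5, 6, 4, 6, 5, 2, 7]⟩ : Fct)) (lfA (⟨12, [1, 2, 4, 6, 5, 1, 4, 11, 7, 5, 6, 4, 6, 5, 2, 7, 4], 7, [1, 8, 6, 5, 4, 8, 5, 4, 6, 11, 12, 1, 8, 12, 5, 11, 12]⟩ : Fct))) (ndA (nat_lit 147) (lfA (⟨12, [1, 2, 4, 6, 5, 1, 4, 11, 7, 5, 6, 4, 6, 5, 2, 7, 4], 7, [1, 8,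 6, 5, 4, 8, 5, 4, 6, 11, 12, 1, 8, 12, 5, 11, 12]⟩ : Fct)) (lfA (⟨7, [2, 3, 5, 2, 4, 8, 5, 2, 6, 4, 12, 2, 8, 12, 6, 11, 13], 12, [1, 5, 4, 3, 6, 2, 1, 4, 3, 7, 5, 6, 4, 6, 5, 2, 7]⟩ : Fct)))) (ndA (nat_lit 150) (ndA (nat_lit 149) (lfA (⟨7, [2, 3, 5, 2, 4, 8, 5, 2, 6, 4, 12, 2, 8, 12, 6, 11, 13], 12, [1, 5, 4, 3, 6, 2, 1, 4, 3, 7, 5, 6, 4, 6, 5, 2, 7]⟩ : Fct)) (lfA (⟨12, [5, 6, 1, 8, 5, 4, 6, 4, 5, 10, 7, 5, 6, 4, 6, 5, 2, 7], 5, [1, 3, 2, 3, 1, 4, 6, 8, 11, 12, 2, 8, 12, 6, 11, 13]⟩ : Fct))) (ndA (nat_lit 151) (lfA (⟨12, [5, 6, 1, 8, 5, 4, 6, 4, 5, 10, 7, 5, 6, 4, 6, 5, 2, 7], 5, [1, 3, 2, 3, 1, 4, 6, 8, 11, 12, 2, 8, 12, 6, 11, 13]⟩ : Fct)) (lfA (⟨12, [4, 5, 4, 3, 6, 1, 8, 5, 9, 10, 7, 6, 5, 4,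 6, 7, 5, 6, 8, 7, 6], 10, [3, 8, 5, 10, 12, 5, 8, 12, 6, 11, 12]⟩ : Fct))))) (ndA (nat_lit 156) (ndA (nat_lit 154) (ndA (nat_lit 153) (lfA (⟨12, [4, 5, 4, 3, 6, 1, 8, 5, 9, 10, 7, 6, 5, 4, 6, 7, 5, 6, 8, 7, 6], 10, [3, 8, 5, 10, 12, 5, 8, 12, 6, 11, 12]⟩ : Fct)) (lfA (⟨10, [8, 6, 1, 3, 2, 4, 9, 5, 6, 10, 12, 2, 8, 13], 12, [4, 5, 2, 3, 6, 4, 5, 1, 7, 5, 4, 6, 7, 6, 5, 7, 5, 1, 6]⟩ : Fct))) (ndA (nat_lit 155) (lfA (⟨10, [8, 6, 1, 3, 2, 4, 9, 5, 6, 10, 12, 2, 8, 13], 12, [4, 5, 2, 3, 6, 4, 5, 1, 7, 5, 4, 6, 7, 6, 5, 7, 5, 1, 6]⟩ : Fct)) (lfA (⟨10, [11, 5, 1, 13, 3, 4, 2, 5, 8, 5, 1, 6, 1], 12, [1, 3, 2, 4, 6, 5, 4, 8, 6, 5, 1, 10, 7, 5, 6, 7, 5, 2, 6, 7, 6, 5]⟩ : Fct)))) (ndA (nat_lit 158) (ndA (nat_lit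 157) (lfA (⟨10, [11, 5, 1, 13, 3, 4, 2, 5, 8, 5, 1, 6, 1], 12, [1, 3, 2, 4, 6, 5, 4, 8, 6, 5, 1, 10, 7, 5, 6, 7, 5, 2, 6, 7, 6, 5]⟩ : Fct)) (lfA (⟨12, [1, 5, 6, 4, 6, 9, 6, 10, 7, 5, 6, 4, 6, 5, 7, 5, 4, 6, 1, 7], 6, [3, 6, 4, 5, 2, 6, 5, 9, 6, 10, 12, 2, 10]⟩ : Fct))) (ndA (nat_lit 159) (lfA (⟨12, [1, 5, 6, 4, 6, 9, 6, 10, 7, 5, 6, 4, 6, 5, 7, 5, 4, 6, 1, 7], 6, [3, 6, 4, 5, 2, 6, 5, 9, 6, 10, 12, 2, 10]⟩ : Fct)) (lfA (⟨10, [2, 3, 6, 1, 4, 5, 6, 2, 1, 10, 12, 2, 8, 13, 11], 12, [5, 7, 4, 6, 5, 7, 4, 5, 4, 6, 7, 11, 5, 4, 6, 4, 2, 1, 3]⟩ : Fct))))))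
noncomputable def FT10 : ℕ → Fct := (ndA (nat_lit 168) (ndA (nat_lit 164) (ndA (nat_lit 162) (ndA (nat_lit 161) (lfA (⟨10, [2, 3, 6, 1, 4, 5, 6, 2, 1, 10, 12, 2, 8, 13, 11], 12, [5, 7, 4, 6, 5, 7, 4, 5, 4, 6, 7, 11, 5, 4, 6, 4, 2, 1, 3]⟩ : Fct)) (lfA (⟨12, [1, 5, 6, 5, 7, 5, 6, 7, 6, 4, 5, 7, 3, 4, 2, 5, 4, 6, 8, 6, 2], 12, []⟩ : Fct))) (ndA (nat_lit 163) (lfA (⟨7, [3, 4, 5, 2, 9, 5, 6, 4, 11, 12, 2, 8, 13, 11], 12, [6, 7, 5, 3, 4, 6, 2, 5, 7, 11, 3, 4, 5]⟩ : Fct)) (lfA (⟨7, [3, 4, 5, 2, 9, 5, 6, 4, 11, 12, 2, 8, 13, 11], 12, [6, 7, 5, 3, 4, 6, 2, 5, 7, 11, 3, 4, 5]⟩ : Fct)))) (ndA (nat_lit 166) (ndA (nat_lit 165) (lfA (⟨10, [12, 9, 2, 13, 11, 6, 5, 4, 1, 6, 9, 3, 2], 12, [3, 7, 8, 5, 6, 7, 6, 4,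 6, 5, 7, 1, 5, 6, 2, 5, 4, 1, 6, 5]⟩ : Fct)) (lfA (⟨10, [12, 9, 2, 13, 11, 6, 5, 4, 1, 6, 9, 3, 2], 12, [3, 7, 8, 5, 6, 7, 6, 4, 6, 5, 7, 1, 5, 6, 2, 5, 4, 1, 6, 5]⟩ : Fct))) (ndA (nat_lit 167) (lfA (⟨10, [5, 4, 5, 6, 1, 8, 5, 2, 4, 10, 12, 10, 12, 1, 3], 12, [1, 5, 9, 6, 5, 4, 5, 6, 7, 6, 7, 5, 4, 6, 7, 5, 4, 6, 2, 1]⟩ : Fct)) (lfA (⟨10, [5, 4, 5, 6, 1, 8, 5, 2, 4, 10, 12, 10, 12, 1, 3], 12, [1, 5, 9, 6, 5, 4, 5, 6, 7, 6, 7, 5, 4, 6, 7, 5, 4, 6, 2, 1]⟩ : Fct))))) (ndA (nat_lit 172) (ndA (nat_lit 170) (ndA (nat_lit 169) (lfA (⟨12, [2, 5, 4, 6, 7, 6, 7, 2, 5, 4, 6, 7, 6, 9, 3, 2, 5, 1], 11, [13, 9, 5, 13, 11, 8, 4, 5, 9, 5, 6, 4]⟩ : Fct)) (lfA (⟨12, [2, 5, 4, 6, 7, 6, 7, 2, 5, 4, 6, 7, 6, 9, 3, 2,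 5, 1], 11, [13, 9, 5, 13, 11, 8, 4, 5, 9, 5, 6, 4]⟩ : Fct))) (ndA (nat_lit 171) (lfA (⟨11, [5, 4, 8, 6, 1, 5, 6, 4, 8, 10, 12, 1, 8, 13, 5, 11, 13, 6], 12, [1, 6, 8, 4, 6, 7, 5, 4, 6, 7, 11, 2, 6, 4, 5, 4, 6, 9]⟩ : Fct)) (lfA (⟨11, [5, 4, 8, 6, 1, 5, 6, 4, 8, 10, 12, 1, 8, 13, 5, 11, 13, 6], 12, [1, 6, 8, 4, 6, 7, 5, 4, 6, 7, 11, 2, 6, 4, 5, 4, 6, 9]⟩ : Fct)))) (ndA (nat_lit 174) (ndA (nat_lit 173) (lfA (⟨10, [8, 6, 4, 5, 2, 8, 6, 5, 4, 12, 2, 10, 13, 6], 12, [4, 7, 5, 6, 7, 5, 9, 5, 7, 6, 5, 7, 2, 5, 6, 9, 4, 1, 3]⟩ : Fct)) (lfA (⟨10, [8, 6, 4, 5, 2, 8, 6, 5, 4, 12, 2, 10, 13, 6], 12, [4, 7, 5, 6, 7, 5, 9, 5, 7, 6, 5, 7, 2, 5, 6, 9, 4, 1, 3]⟩ : Fct))) (ndA (nat_lit 175) (lfA (⟨12, [5, 6, 8, 6,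 4, 5, 6, 11, 7, 5, 2, 4, 6, 1, 7, 5, 2, 4], 11, [13, 9, 2, 13, 11, 6, 5, 9, 4, 1, 6, 9, 6, 2]⟩ : Fct)) (lfA (⟨12, [5, 6, 8, 6, 4, 5, 6, 11, 7, 5, 2, 4, 6, 1, 7, 5, 2, 4], 11, [13, 9, 2, 13, 11, 6, 5, 9, 4, 1, 6, 9, 6, 2]⟩ : Fct))))))
noncomputable def FT11 : ℕ → Fct := (ndA (nat_lit 184) (ndA (nat_lit 180) (ndA (nat_lit 178) (ndA (nat_lit 177) (lfA (⟨12, [5, 1, 7, 6, 4, 5, 6, 7, 6, 4, 5, 7, 10, 6, 4, 2, 5, 6, 4, 1, 3], 10, [12, 9, 6, 2, 13, 10, 4, 6, 5, 4, 6, 5, 1]⟩ : Fct)) (lfA (⟨12, [5, 1, 7, 6, 4, 5, 6, 7, 6, 4, 5, 7, 10, 6, 4, 2, 5, 6, 4, 1, 3], 10, [12, 9, 6, 2, 13, 10, 4, 6, 5, 4, 6, 5, 1]⟩ : Fct))) (ndA (nat_lit 179) (lfA (⟨10, [6, 1, 8, 5, 2, 3, 4, 6, 1, 11, 12, 5, 8, 12, 6, 11, 12], 12,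 [8, 1, 6, 3, 4, 5, 7, 6, 4, 5, 3, 7, 1, 5, 6, 5, 4, 5, 4]⟩ : Fct)) (lfA (⟨10, [6, 1, 8, 5, 2, 3, 4, 6, 1, 11, 12, 5, 8, 12, 6, 11, 12], 12, [8, 1, 6, 3, 4, 5, 7, 6, 4, 5, 3, 7, 1, 5, 6, 5, 4, 5, 4]⟩ : Fct)))) (ndA (nat_lit 182) (ndA (nat_lit 181) (lfA (⟨11, [1, 5, 2, 6, 4, 8, 6, 1, 8, 11, 12, 8, 13, 5, 11, 13], 12, [1, 2, 4, 6, 8, 6, 4, 10, 7, 3, 5, 4, 6, 7, 8, 6, 5, 4, 5]⟩ : Fct)) (lfA (⟨11, [1, 5, 2, 6, 4, 8, 6, 1, 8, 11, 12, 8, 13, 5, 11, 13], 12, [1, 2, 4, 6, 8, 6, 4, 10, 7, 3, 5, 4, 6, 7, 8, 6, 5, 4, 5]⟩ : Fct))) (ndA (nat_lit 183) (lfA (⟨12, [6, 8, 7, 1, 6, 5, 7, 6, 5, 7, 1, 2, 6, 3, 4, 5, 9, 2, 5, 4], 6, [4, 3, 2, 6, 4, 5, 4, 8, 11, 12, 5, 8, 12, 1]⟩ : Fct)) (lfA (⟨12, [6, 8, 7, 1, 6, 5,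 7, 6, 5, 7, 1, 2, 6, 3, 4, 5, 9, 2, 5, 4], 6, [4, 3, 2, 6, 4, 5, 4, 8, 11, 12, 5, 8, 12, 1]⟩ : Fct))))) (ndA (nat_lit 188) (ndA (nat_lit 186) (ndA (nat_lit 185) (lfA (⟨12, [1, 4, 6, 5, 4, 8, 6, 1, 10, 7, 5, 2, 6, 7, 5, 2, 6, 4, 5, 7], 7, [1, 2, 6, 5, 4, 3, 9, 10, 12, 5, 8, 12]⟩ : Fct)) (lfA (⟨12, [1, 4, 6, 5, 4, 8, 6, 1, 10, 7, 5, 2, 6, 7, 5, 2, 6, 4, 5, 7], 7, [1, 2, 6, 5, 4, 3, 9, 10, 12, 5, 8, 12]⟩ : Fct))) (ndA (nat_lit 187) (lfA (⟨12, [7, 4, 2, 6, 5, 7, 6, 4, 5, 6, 7, 6, 1, 3, 4, 2, 5, 6, 9], 6, [1, 13, 9, 5, 1, 13, 11, 4, 3, 1, 2, 6, 1, 3]⟩ : Fct)) (lfA (⟨12, [7, 4, 2, 6, 5, 7, 6, 4, 5, 6, 7, 6, 1, 3, 4, 2, 5, 6, 9], 6, [1, 13, 9, 5, 1, 13, 11, 4, 3, 1, 2, 6, 1, 3]⟩ : Fct)))) (ndA (nat_lit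 190) (ndA (nat_lit 189) (lfA (⟨11, [2, 13, 11, 6, 13, 10, 1, 6, 1, 3, 2], 12, [4, 1, 6, 5, 4, 5, 7, 5, 6, 7, 10, 1, 5, 6, 4, 5, 6, 9]⟩ : Fct)) (lfA (⟨11, [2, 13, 11, 6, 13, 10, 1, 6, 1, 3, 2], 12, [4, 1, 6, 5, 4, 5, 7, 5, 6, 7, 10, 1, 5, 6, 4, 5, 6, 9]⟩ : Fct))) (ndA (nat_lit 191) (lfA (⟨11, [3, 4, 5, 4, 6, 4, 9, 6, 1, 11, 12, 8, 13, 6, 11, 12, 5], 12, [7, 5, 1, 6, 4, 5, 7, 6, 4, 5, 7, 10, 8, 5, 4, 6, 5, 9, 2]⟩ : Fct)) (lfA (⟨11, [3, 4, 5, 4, 6, 4, 9, 6, 1, 11, 12, 8, 13, 6, 11, 12, 5], 12, [7, 5, 1, 6, 4, 5, 7, 6, 4, 5, 7, 10, 8, 5, 4, 6, 5, 9, 2]⟩ : Fct))))))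
noncomputable def FT12 : ℕ → Fct := (ndA (nat_lit 200) (ndA (nat_lit 196) (ndA (nat_lit 194) (ndA (nat_lit 193) (lfA (⟨12, [3, 7, 6, 2, 5, 7, 6, 5, 7, 10, 5, 1, 3, 4, 6, 5, 2, 1, 3, 1], 11, [2, 6, 4, 5, 6, 4, 5, 9, 5, 12, 1]⟩ : Fct)) (lfA (⟨12, [3, 7, 6, 2, 5, 7, 6, 5, 7, 10, 5, 1, 3, 4, 6, 5, 2, 1, 3, 1], 11, [2, 6, 4, 5, 6, 4, 5, 9, 5, 12, 1]⟩ : Fct))) (ndA (nat_lit 195) (lfA (⟨7, [3, 4, 5, 2, 8, 6, 5, 2, 4, 11, 12, 1, 8, 13, 5, 11, 13, 6], 12, [8, 7, 6, 5, 7, 5, 4, 6, 4, 5, 7, 11, 4, 2, 5, 3, 4, 1, 6, 9, 2]⟩ : Fct)) (lfA (⟨7, [3, 4, 5, 2, 8, 6, 5, 2, 4, 11, 12, 1, 8, 13, 5, 11, 13, 6], 12, [8, 7, 6, 5, 7, 5, 4, 6, 4, 5, 7, 11, 4, 2, 5, 3, 4, 1, 6, 9, 2]⟩ : Fct)))) (ndA (nat_lit 198) (ndA (nat_lit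 197) (lfA (⟨12, [1, 3, 2, 4, 5, 8, 5, 4, 6, 1, 5, 11, 7, 6, 4, 5, 7, 6, 4, 7, 4, 5, 4], 10, [10, 12, 9, 5, 1, 13, 11, 4, 5, 6, 8, 1, 6, 1]⟩ : Fct)) (lfA (⟨12, [1, 3, 2, 4, 5, 8, 5, 4, 6, 1, 5, 11, 7, 6, 4, 5, 7, 6, 4, 7, 4, 5, 4], 10, [10, 12, 9, 5, 1, 13, 11, 4, 5, 6, 8, 1, 6, 1]⟩ : Fct))) (ndA (nat_lit 199) (lfA (⟨12, [3, 1, 3, 2, 5, 6, 4, 6, 5, 1, 11, 7, 3, 5, 4, 6, 4, 5, 7, 5], 11, [2, 3, 1, 3, 6, 2, 4, 6, 5, 12, 2, 8, 13, 11]⟩ : Fct)) (lfA (⟨12, [3, 1, 3, 2, 5, 6, 4, 6, 5, 1, 11, 7, 3, 5, 4, 6, 4, 5, 7, 5], 11, [2, 3, 1, 3, 6, 2, 4, 6, 5, 12, 2, 8, 13, 11]⟩ : Fct))))) (ndA (nat_lit 204) (ndA (nat_lit 202) (ndA (nat_lit 201) (lfA (⟨7, [8, 5, 2, 4, 5, 6, 10, 12, 2, 8], 12, [2, 4, 3, 8, 6, 1,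 4, 10, 7, 5, 4, 6, 7, 6, 5, 7, 1, 8, 5]⟩ : Fct)) (lfA (⟨7, [8, 5, 2, 4, 5, 6, 10, 12, 2, 8], 12, [2, 4, 3, 8, 6, 1, 4, 10, 7, 5, 4, 6, 7, 6, 5, 7, 1, 8, 5]⟩ : Fct))) (ndA (nat_lit 203) (lfA (⟨11, [10, 6, 13, 9, 5, 13, 10, 5, 4, 1, 6, 4, 2, 3, 2], 12, [6, 1, 4, 8, 6, 1, 3, 7, 5, 4, 6, 7, 4, 5, 7, 9, 5, 7]⟩ : Fct)) (lfA (⟨11, [10, 6, 13, 9, 5, 13, 10, 5, 4, 1, 6, 4, 2, 3, 2], 12, [6, 1, 4, 8, 6, 1, 3, 7, 5, 4, 6, 7, 4, 5, 7, 9, 5, 7]⟩ : Fct)))) (ndA (nat_lit 206) (ndA (nat_lit 205) (lfA (⟨11, [1, 2, 4, 6, 4, 3, 2, 10, 12, 5, 8, 12, 11, 12], 12, [4, 3, 1, 2, 3, 6, 4, 5, 7, 6, 5, 4, 5, 7, 6, 4, 7]⟩ : Fct)) (lfA (⟨11, [1, 2, 4, 6, 4, 3, 2, 10, 12, 5, 8, 12, 11, 12], 12, [4, 3, 1, 2, 3, 6, 4, 5, 7, 6,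 5, 4, 5, 7, 6, 4, 7]⟩ : Fct))) (ndA (nat_lit 207) (lfA (⟨11, [2, 4, 9, 6, 5, 4, 5, 2, 12, 2, 8, 12, 6, 11, 13], 12, [7, 6, 7, 6, 4, 5, 7, 6, 4, 5, 7, 11, 4, 5, 9, 4, 5, 4, 1, 6, 1]⟩ : Fct)) (lfA (⟨11, [2, 4, 9, 6, 5, 4, 5, 2, 12, 2, 8, 12, 6, 11, 13], 12, [7, 6, 7, 6, 4, 5, 7, 6, 4, 5, 7, 11, 4, 5, 9, 4, 5, 4, 1, 6, 1]⟩ : Fct))))))
noncomputable def FT13 : ℕ → Fct := (ndA (nat_lit 216) (ndA (nat_lit 212) (ndA (nat_lit 210) (ndA (nat_lit 209) (lfA (⟨11, [2, 3, 1, 4, 6, 1, 5, 2, 4, 9, 11, 12, 2, 8, 13, 6, 11, 12], 12, [3, 4, 6, 5, 7, 1, 6, 4, 5, 3, 7, 10, 8, 2, 5, 3, 4, 6, 9, 3, 2]⟩ : Fct)) (lfA (⟨11, [2, 3, 1, 4, 6, 1, 5, 2, 4, 9, 11, 12, 2, 8, 13, 6, 11, 12], 12, [3, 4, 6, 5, 7, 1, 6, 4, 5, 3, 7,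 10, 8, 2, 5, 3, 4, 6, 9, 3, 2]⟩ : Fct))) (ndA (nat_lit 211) (lfA (⟨10, [13, 10, 1, 12, 9, 13, 11, 6, 4, 1, 3, 2, 6, 5, 4, 6, 1], 12, [3, 1, 4, 6, 5, 2, 3, 1, 4, 10, 7, 5, 2, 6, 4, 3, 7, 6, 5, 4, 5, 7]⟩ : Fct)) (lfA (⟨10, [13, 10, 1, 12, 9, 13, 11, 6, 4, 1, 3, 2, 6, 5, 4, 6, 1], 12, [3, 1, 4, 6, 5, 2, 3, 1, 4, 10, 7, 5, 2, 6, 4, 3, 7, 6, 5, 4, 5, 7]⟩ : Fct)))) (ndA (nat_lit 214) (ndA (nat_lit 213) (lfA (⟨12, [7, 4, 1, 5, 7, 6, 3, 4, 5, 7, 10, 4, 6, 8, 4, 6, 1], 11, [2, 3, 1, 5, 2, 4, 5, 6, 12, 5, 8, 12, 11, 12, 1]⟩ : Fct)) (lfA (⟨12, [7, 4, 1, 5, 7, 6, 3, 4, 5, 7, 10, 4, 6, 8, 4, 6, 1], 11, [2, 3, 1, 5, 2, 4, 5, 6, 12, 5, 8, 12, 11, 12, 1]⟩ : Fct))) (ndA (nat_lit 215) (lfA (⟨7, [4, 6, 5, 4, 3, 1,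 2, 12, 5, 8, 12, 6, 11], 12, [1, 2, 5, 2, 4, 8, 5, 2, 6, 10, 7, 5, 4, 6, 7, 6, 5, 1, 7, 5, 4]⟩ : Fct)) (lfA (⟨7, [4, 6, 5, 4, 3, 1, 2, 12, 5, 8, 12, 6, 11], 12, [1, 2, 5, 2, 4, 8, 5, 2, 6, 10, 7, 5, 4, 6, 7, 6, 5, 1, 7, 5, 4]⟩ : Fct))))) (ndA (nat_lit 220) (ndA (nat_lit 218) (ndA (nat_lit 217) (lfA (⟨12, [1, 4, 6, 4, 8, 5, 6, 7, 6, 4, 5, 2, 7, 6, 4, 3, 7], 11, [1, 13, 11, 13, 8, 6, 4, 6, 5, 4, 6, 9, 6, 2]⟩ : Fct)) (lfA (⟨12, [1, 4, 6, 4, 8, 5, 6, 7, 6, 4, 5, 2, 7, 6, 4, 3, 7], 11, [1, 13, 11, 13, 8, 6, 4, 6, 5, 4, 6, 9, 6, 2]⟩ : Fct))) (ndA (nat_lit 219) (lfA (⟨12, [7, 3, 4, 6, 7, 5, 4, 7, 6, 4, 5, 7, 11, 2, 5, 3, 4, 6, 5, 2], 11, [1, 5, 2, 6, 4, 5, 6, 4, 8, 11, 12, 5]⟩ : Fct)) (lfA (⟨12, [7, 3,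 4, 6, 7, 5, 4, 7, 6, 4, 5, 7, 11, 2, 5, 3, 4, 6, 5, 2], 11, [1, 5, 2, 6, 4, 5, 6, 4, 8, 11, 12, 5]⟩ : Fct)))) (ndA (nat_lit 222) (ndA (nat_lit 221) (lfA (⟨10, [1, 2, 4, 3, 5, 4, 9, 11, 12, 5, 8, 12, 1, 11, 13], 12, [4, 2, 6, 7, 5, 4, 6, 5, 7, 5, 6, 7, 6, 4, 1, 6, 5, 2, 3]⟩ : Fct)) (lfA (⟨10, [1, 2, 4, 3, 5, 4, 9, 11, 12, 5, 8, 12, 1, 11, 13], 12, [4, 2, 6, 7, 5, 4, 6, 5, 7, 5, 6, 7, 6, 4, 1, 6, 5, 2, 3]⟩ : Fct))) (ndA (nat_lit 223) (lfA (⟨12, [8, 7, 6, 4, 5, 1, 7, 6, 4, 5, 3, 7, 10, 3, 4, 5, 6, 4, 1, 6, 2, 5], 11, [12, 10, 1, 12, 9, 13, 4, 5, 8, 4, 6, 5, 9]⟩ : Fct)) (lfA (⟨12, [8, 7, 6, 4, 5, 1, 7, 6, 4, 5, 3, 7, 10, 3, 4, 5, 6, 4, 1, 6, 2, 5], 11, [12, 10, 1, 12, 9, 13, 4, 5, 8, 4, 6, 5, 9]⟩ :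 Fct))))))
noncomputable def FT14 : ℕ → Fct := (ndA (nat_lit 230) (ndA (nat_lit 227) (ndA (nat_lit 225) (lfA (⟨11, [2, 3, 1, 5, 4, 5, 6, 4, 8, 11, 13, 10], 12, [2, 5, 6, 4, 3, 2, 5, 2, 10, 7, 5, 6, 7, 5, 6, 4, 7, 5, 2, 4]⟩ : Fct)) (ndA (nat_lit 226) (lfA (⟨11, [2, 3, 1, 5, 4, 5, 6, 4, 8, 11, 13, 10], 12, [2, 5, 6, 4, 3, 2, 5, 2, 10, 7, 5, 6, 7, 5, 6, 4, 7, 5, 2, 4]⟩ : Fct)) (lfA (⟨3, [5, 4, 5, 2, 6, 4, 9, 11, 12, 5, 8, 12, 11, 12], 12, [2, 4, 5, 4, 6, 4, 3, 5, 8, 11, 7, 5, 6, 4, 5, 6, 8]⟩ : Fct)))) (ndA (nat_lit 228) (lfA (⟨3, [5, 4, 5, 2, 6, 4, 9, 11, 12, 5, 8, 12, 11, 12], 12, [2, 4, 5, 4, 6, 4, 3, 5, 8, 11, 7, 5, 6, 4, 5, 6, 8]⟩ : Fct)) (ndA (nat_lit 229) (lfA (⟨3, [2, 4, 5, 6, 4, 5, 4, 6, 8,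 6, 12, 1], 12, [4, 3, 1, 2, 5, 2, 6, 1, 11, 7, 6, 5, 7, 6, 5, 7, 6]⟩ : Fct)) (lfA (⟨3, [2, 4, 5, 6, 4, 5, 4, 6, 8, 6, 12, 1], 12, [4, 3, 1, 2, 5, 2, 6, 1, 11, 7, 6, 5, 7, 6, 5, 7, 6]⟩ : Fct))))) (ndA (nat_lit 233) (ndA (nat_lit 231) (lfA (⟨7, [13, 10, 13, 9, 5, 1, 13, 3, 4, 2, 3, 1, 6], 12, [4, 8, 6, 4, 5, 4, 7, 5, 2, 4, 6, 7, 5, 6, 7, 6, 1, 4, 5]⟩ : Fct)) (ndA (nat_lit 232) (lfA (⟨7, [13, 10, 13, 9, 5, 1, 13, 3, 4, 2, 3, 1, 6], 12, [4, 8, 6, 4, 5, 4, 7, 5, 2, 4, 6, 7, 5, 6, 7, 6, 1, 4, 5]⟩ : Fct)) (lfA (⟨12, [3, 2, 3, 1, 6, 4, 5, 10, 7, 5, 6, 4, 7, 6, 5, 7, 6, 1], 3, [1, 9, 5, 2, 10, 12, 1, 8, 12, 5, 11, 12, 1]⟩ : Fct)))) (ndA (nat_lit 234) (lfA (⟨12, [3, 2, 3, 1, 6, 4, 5, 10, 7, 5, 6, 4, 7, 6,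 5, 7, 6, 1], 3, [1, 9, 5, 2, 10, 12, 1, 8, 12, 5, 11, 12, 1]⟩ : Fct)) (ndA (nat_lit 235) (lfA (⟨3, [12, 9, 1, 13, 2, 5, 3, 4, 2, 5, 3, 1, 6, 2], 12, [1, 8, 5, 2, 9, 6, 5, 4, 5, 7, 5, 4, 6, 7, 5, 2, 6, 4, 3, 8]⟩ : Fct)) (lfA (⟨3, [12, 9, 1, 13, 2, 5, 3, 4, 2, 5, 3, 1, 6, 2], 12, [1, 8, 5, 2, 9, 6, 5, 4, 5, 7, 5, 4, 6, 7, 5, 2, 6, 4, 3, 8]⟩ : Fct))))))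
noncomputable def FT : ℕ → Fct := (ndA (nat_lit 112) (ndA (nat_lit 48) (ndA (nat_lit 16) FT0 (ndA (nat_lit 32) FT1 FT2)) (ndA (nat_lit 80) (ndA (nat_lit 64) FT3 FT4) (ndA (nat_lit 96) FT5 FT6))) (ndA (nat_lit 176) (ndA (nat_lit 144) (ndA (nat_lit 128) FT7 FT8) (ndA (nat_lit 160) FT9 FT10)) (ndA (nat_lit 208) (ndA (nat_lit 192) FT11 FT12) (ndA (nat_lit 224) FT13 FT14))))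

noncomputable def DT0 : ℕ → Der := (ndA (nat_lit 8) (ndA (nat_lit 4) (ndA (nat_lit 2) (ndA (nat_lit 1) (lfA (⟨1, 0, 0, [], [], 0⟩ : Der)) (lfA (⟨1, 0, 0, [], [], 0⟩ : Der))) (ndA (nat_lit 3) (lfA (⟨1, 0, 0, [], [], 0⟩ : Der)) (lfA (⟨1, 0, 0, [], [], 0⟩ : Der)))) (ndA (nat_lit 6) (ndA (nat_lit 5) (lfA (⟨1, 0, 0, [], [], 0⟩ : Der)) (lfA (⟨1, 0, 0, [], [], 0⟩ : Der))) (ndA (nat_lit 7) (lfA (⟨1, 0, 0, [], [], 0⟩ : Der)) (lfA (⟨1, 0, 0, [], [], 0⟩ : Der))))) (ndA (nat_lit 12) (ndA (nat_lit 10) (ndA (nat_lit 9) (lfA (⟨0, 0, 0, [], [], 1⟩ : Der)) (lfA (⟨2, 0, 0, [], [⟨0, [], 17, 1, [1]⟩, ⟨0, [0], 16, 0, []⟩], 1⟩ : Der))) (ndA (nat_lit 11) (lfA (⟨2, 0, 0, [], [⟨0, [], 17, 1, [2]⟩, ⟨0, [2], 16, 0, []⟩],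 1⟩ : Der)) (lfA (⟨2, 0, 0, [], [⟨0, [], 17, 1, [3]⟩, ⟨0, [4], 16, 0, []⟩], 1⟩ : Der)))) (ndA (nat_lit 14) (ndA (nat_lit 13) (lfA (⟨2, 0, 0, [], [⟨0, [], 17, 1, [4]⟩, ⟨0, [6], 16, 0, []⟩], 1⟩ : Der)) (lfA (⟨2, 0, 0, [], [⟨0, [], 17, 1, [5]⟩, ⟨0, [8], 16, 0, []⟩], 1⟩ : Der))) (ndA (nat_lit 15) (lfA (⟨2, 0, 0, [], [⟨0, [], 17, 1, [6]⟩, ⟨0, [10], 16, 0, []⟩], 1⟩ : Der)) (lfA (⟨2, 0, 0, [], [⟨0, [], 17, 1, [8]⟩, ⟨0, [14], 16, 0, []⟩], 1⟩ : Der))))))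
noncomputable def DT1 : ℕ → Der := (ndA (nat_lit 24) (ndA (nat_lit 20) (ndA (nat_lit 18) (ndA (nat_lit 17) (lfA (⟨2, 0, 0, [], [⟨0, [], 17, 1, [3, 4, 11]⟩, ⟨0, [12, 6, 5, 13], 16, 0, []⟩], 1⟩ : Der)) (lfA (⟨0, 0, 0, [], [], 0⟩ : Der))) (ndA (nat_lit 19) (lfA (⟨2, 0, 0, [], [⟨0, [], 35, 0, [4, 3]⟩, ⟨0, [24, 23], 34, 1, []⟩], 0⟩ : Der)) (lfA (⟨2, 0, 0, [], [⟨0, [], 35, 0, [1, 2, 3]⟩, ⟨0, [18, 20, 23], 34, 1, []⟩], 0⟩ : Der)))) (ndA (nat_lit 22) (ndA (nat_lit 21) (lfA (⟨2, 0, 0, [], [⟨0, [], 35, 0, [1, 2, 3, 5, 1]⟩, ⟨0, [18, 22, 29], 34, 1, []⟩], 0⟩ : Der)) (lfA (⟨2, 0, 0, [], [⟨0, [], 35, 0, [1, 2, 3, 2, 6]⟩, ⟨0, [20, 22, 27], 34, 1, []⟩], 0⟩ : Der))) (ndA (nat_lit 23) (lfA (⟨2, 0, 0, [], [⟨0, [],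 35, 0, [3, 4, 3, 8, 10]⟩, ⟨0, [22, 30, 33], 34, 1, []⟩], 0⟩ : Der)) (lfA (⟨0, 0, 0, [], [], 1⟩ : Der))))) (ndA (nat_lit 28) (ndA (nat_lit 26) (ndA (nat_lit 25) (lfA (⟨2, 0, 0, [], [⟨0, [], 47, 1, [3, 4, 11]⟩, ⟨0, [36], 46, 0, []⟩], 1⟩ : Der)) (lfA (⟨2, 0, 0, [], [⟨0, [], 47, 1, [3, 4, 3, 8, 10]⟩, ⟨0, [44], 46, 0, []⟩], 1⟩ : Der))) (ndA (nat_lit 27) (lfA (⟨2, 0, 0, [], [⟨0, [], 47, 1, [2, 4, 3, 1, 2, 10]⟩, ⟨0, [38, 36, 39], 46, 0, []⟩], 1⟩ : Der)) (lfA (⟨0, 0, 0, [], [], 0⟩ : Der)))) (ndA (nat_lit 30) (ndA (nat_lit 29) (lfA (⟨2, 0, 0, [], [⟨0, [], 55, 0, [1, 2, 9, 10]⟩, ⟨0, [30], 54, 1, []⟩], 0⟩ : Der)) (lfA (⟨2, 0, 0, [], [⟨0, [], 55, 0, [2, 1, 4]⟩, ⟨0, [18, 20, 25], 54, 1, []⟩], 0⟩ : Der))) (ndA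 (nat_lit 31) (lfA (⟨2, 0, 0, [], [⟨0, [], 55, 0, [3, 1, 4, 3, 5, 6, 2, 4, 3]⟩, ⟨0, [20, 22, 32, 19], 54, 1, []⟩], 0⟩ : Der)) (lfA (⟨2, 0, 0, [], [⟨0, [], 55, 0, [5, 6, 9, 6, 5, 10]⟩, ⟨0, [22, 20, 19, 23], 54, 1, []⟩], 0⟩ : Der))))))
noncomputable def DT2 : ℕ → Der := (ndA (nat_lit 40) (ndA (nat_lit 36) (ndA (nat_lit 34) (ndA (nat_lit 33) (lfA (⟨2, 0, 0, [], [⟨0, [], 55, 0, [2, 4, 6, 8, 6, 4, 5, 8, 5, 2, 11]⟩, ⟨0, [26, 24, 29, 25], 54, 1, []⟩], 0⟩ : Der)) (lfA (⟨2, 534, 9, [], [⟨9, [], 17, 1, [4, 5, 6, 1, 4, 5, 6, 2, 5, 10]⟩, ⟨9, [13, 9, 7, 11, 13, 7, 9, 13], 16, 0, [4, 5, 8, 5, 4, 6, 1, 9, 6, 1, 4, 11]⟩, ⟨9, [27, 19], 54, 1, [2, 3, 4, 5, 4, 6, 1, 4, 3, 10]⟩], 0⟩ : Der))) (ndA (nat_lit 35) (lfA (⟨2,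 0, 0, [], [⟨0, [], 66, 1, []⟩], 0⟩ : Der)) (lfA (⟨2, 0, 0, [6, 4, 6, 5, 1, 2, 3, 1, 4, 10], [⟨0, [], 69, 0, []⟩, ⟨0, [29, 21], 54, 1, [6, 4, 6, 5, 1, 2, 3, 1, 4, 10]⟩], 0⟩ : Der)))) (ndA (nat_lit 38) (ndA (nat_lit 37) (lfA (⟨0, 0, 0, [], [], 1⟩ : Der)) (lfA (⟨2, 0, 0, [], [⟨0, [], 73, 1, [1, 5, 2, 3, 1, 3, 2, 5]⟩, ⟨0, [56, 56], 72, 0, []⟩], 1⟩ : Der))) (ndA (nat_lit 39) (lfA (⟨2, 0, 0, [], [⟨0, [], 73, 1, [10]⟩, ⟨0, [64, 56, 65, 57], 72, 0, []⟩], 1⟩ : Der)) (lfA (⟨2, 0, 0, [], [⟨0, [], 73, 1, [1, 4, 3, 1, 2, 3, 8, 11]⟩, ⟨0, [64, 58, 65, 57], 72, 0, []⟩], 1⟩ : Der))))) (ndA (nat_lit 44) (ndA (nat_lit 42) (ndA (nat_lit 41) (lfA (⟨2, 0, 0, [], [⟨0, [], 73, 1, [3, 4, 3, 8, 11]⟩, ⟨0, [56, 62, 64, 63,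 61], 72, 0, []⟩], 1⟩ : Der)) (lfA (⟨2, 0, 0, [], [⟨0, [], 73, 1, [1, 3, 2, 5, 4, 6, 5, 4, 6, 5]⟩, ⟨0, [56, 70, 56, 64, 59], 72, 0, []⟩], 1⟩ : Der))) (ndA (nat_lit 43) (lfA (⟨2, 533, 27, [], [⟨9, [], 35, 0, [2, 5, 6, 4, 5, 6, 2, 10]⟩, ⟨9, [29], 54, 1, [1, 3, 5, 2, 4, 6, 9, 6]⟩, ⟨9, [70], 72, 0, [1, 8, 6, 1, 8, 5, 4, 9]⟩], 1⟩ : Der)) (lfA (⟨2, 0, 0, [], [⟨0, [], 84, 0, []⟩], 1⟩ : Der)))) (ndA (nat_lit 46) (ndA (nat_lit 45) (lfA (⟨2, 533, 27, [], [⟨9, [], 72, 0, [5, 4, 8, 5, 2, 6, 1, 4, 6, 9, 11]⟩, ⟨9, [81], 87, 1, [5, 1, 10]⟩, ⟨9, [42, 45, 38, 38], 86, 0, [5, 6, 4, 8, 5, 2, 3, 1, 6]⟩], 1⟩ : Der)) (lfA (⟨2, 0, 0, [], [⟨0, [], 88, 0, []⟩], 1⟩ : Der))) (ndA (nat_lit 47) (lfA (⟨2, 0, 0, [9, 6, 5, 4, 6,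 5, 2, 3, 4, 11], [⟨0, [], 91, 1, []⟩, ⟨0, [57, 70], 72, 0, [9, 6, 5, 4, 6, 5, 2, 3, 4, 11]⟩], 1⟩ : Der)) (lfA (⟨2, 534, 18, [], [⟨9, [], 86, 0, [2, 3, 5, 8, 5, 4, 3, 6, 9, 11]⟩, ⟨9, [75], 87, 1, [1, 2, 4, 5, 6, 4, 6, 5, 2, 3, 1, 10]⟩, ⟨9, [42, 41, 39], 46, 0, [1, 4, 5, 6, 4, 5, 1, 4, 6, 1, 11]⟩], 1⟩ : Der))))))
noncomputable def DT3 : ℕ → Der := (ndA (nat_lit 56) (ndA (nat_lit 52) (ndA (nat_lit 50) (ndA (nat_lit 49) (lfA (⟨2, 0, 0, [], [⟨0, [], 94, 0, []⟩], 1⟩ : Der)) (lfA (⟨0, 0, 0, [], [], 1⟩ : Der))) (ndA (nat_lit 51) (lfA (⟨2, 0, 0, [], [⟨0, [], 99, 1, [3, 8]⟩, ⟨0, [58, 57], 98, 0, []⟩], 1⟩ : Der)) (lfA (⟨2, 0, 0, [], [⟨0, [], 99, 1, [1, 6, 8, 5, 9]⟩, ⟨0, [62, 57], 98, 0, []⟩], 1⟩ : Der))))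 (ndA (nat_lit 54) (ndA (nat_lit 53) (lfA (⟨2, 0, 0, [], [⟨0, [], 99, 1, [10]⟩, ⟨0, [64, 56, 65, 57], 98, 0, []⟩], 1⟩ : Der)) (lfA (⟨2, 534, 9, [], [⟨9, [], 99, 1, [4, 3, 5, 8, 5, 4, 6, 1, 8]⟩, ⟨9, [58, 65, 57, 71, 59], 72, 0, [5, 9, 6, 4, 5, 4, 6, 1, 11]⟩, ⟨9, [83], 87, 1, [2, 6, 4, 5, 2, 4]⟩], 0⟩ : Der))) (ndA (nat_lit 55) (lfA (⟨2, 0, 0, [], [⟨0, [], 106, 1, []⟩], 0⟩ : Der)) (lfA (⟨0, 0, 0, [], [], 1⟩ : Der))))) (ndA (nat_lit 60) (ndA (nat_lit 58) (ndA (nat_lit 57) (lfA (⟨2, 0, 0, [], [⟨0, [], 111, 1, [10]⟩, ⟨0, [64, 56, 65, 57], 110, 0, []⟩], 1⟩ : Der)) (lfA (⟨2, 0, 0, [], [⟨0, [], 111, 1, [1, 2, 5, 4, 6, 4, 5, 9, 10]⟩, ⟨0, [70, 62, 58, 62, 57, 71], 110, 0, []⟩], 1⟩ : Der))) (ndA (nat_lit 59)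 (lfA (⟨2, 0, 0, [], [⟨0, [], 111, 1, [8, 5, 6, 4, 5, 9, 5, 6, 4]⟩, ⟨0, [70, 64, 60, 71, 61], 110, 0, []⟩], 1⟩ : Der)) (lfA (⟨0, 0, 0, [], [], 0⟩ : Der)))) (ndA (nat_lit 62) (ndA (nat_lit 61) (lfA (⟨2, 0, 0, [], [⟨0, [], 119, 0, [1, 2, 9]⟩, ⟨0, [20, 19], 118, 1, []⟩], 0⟩ : Der)) (lfA (⟨2, 0, 0, [], [⟨0, [], 119, 0, [3, 8]⟩, ⟨0, [22], 118, 1, []⟩], 0⟩ : Der))) (ndA (nat_lit 63) (lfA (⟨2, 0, 0, [], [⟨0, [], 119, 0, [4, 8]⟩, ⟨0, [24], 118, 1, []⟩], 0⟩ : Der)) (lfA (⟨2, 0, 0, [], [⟨0, [], 119, 0, [9]⟩, ⟨0, [30], 118, 1, []⟩], 0⟩ : Der))))))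
noncomputable def DT4 : ℕ → Der := (ndA (nat_lit 72) (ndA (nat_lit 68) (ndA (nat_lit 66) (ndA (nat_lit 65) (lfA (⟨2, 0, 0, [], [⟨0, [], 119, 0, [5, 8, 5, 9]⟩, ⟨0, [26, 30, 27], 118, 1, []⟩], 0⟩ : Der)) (lfA (⟨2, 533, 9, [], [⟨9, [], 119, 0, [4, 6, 4, 5, 8, 5, 4, 3, 11]⟩, ⟨9, [21, 23, 19], 54, 1, [2, 3, 5, 9, 5, 4, 6, 4]⟩, ⟨9, [59, 70, 62], 110, 0, [2, 6, 4, 5, 2, 3, 1, 6]⟩], 1⟩ : Der))) (ndA (nat_lit 67) (lfA (⟨2, 0, 0, [], [⟨0, [], 130, 0, []⟩], 1⟩ : Der)) (lfA (⟨2, 534, 9, [], [⟨9, [], 99, 1, [4, 5, 6, 4, 3, 8, 6, 1, 11]⟩, ⟨9, [65, 59, 70], 55, 0, [3, 2, 4, 5, 6, 1, 9, 5, 4, 3, 11]⟩, ⟨9, [27, 32], 118, 1, [1, 5, 4, 3, 1, 6, 1, 4]⟩], 0⟩ : Der)))) (ndA (nat_lit 70) (ndA (nat_lit 69) (lfA (⟨2, 0,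 0, [], [⟨0, [], 134, 1, []⟩], 0⟩ : Der)) (lfA (⟨2, 534, 27, [], [⟨9, [], 73, 1, [1, 2, 3, 1, 2, 6, 4, 5, 4]⟩, ⟨9, [71, 57, 57, 71], 55, 0, [2, 4, 6, 5, 1, 3, 4, 10]⟩, ⟨9, [27], 118, 1, [6, 8, 6, 1, 4, 9]⟩], 0⟩ : Der))) (ndA (nat_lit 71) (lfA (⟨2, 0, 0, [], [⟨0, [], 138, 1, []⟩], 0⟩ : Der)) (lfA (⟨0, 0, 0, [], [], 1⟩ : Der))))) (ndA (nat_lit 76) (ndA (nat_lit 74) (ndA (nat_lit 73) (lfA (⟨2, 0, 0, [], [⟨0, [], 143, 1, [4, 8, 10]⟩, ⟨0, [122], 142, 0, []⟩], 1⟩ : Der)) (lfA (⟨2, 0, 0, [], [⟨0, [], 143, 1, [3, 8, 11]⟩, ⟨0, [124], 142, 0, []⟩], 1⟩ : Der))) (ndA (nat_lit 75) (lfA (⟨2, 0, 0, [], [⟨0, [], 143, 1, [2, 3, 1, 3]⟩, ⟨0, [126, 121], 142, 0, []⟩], 1⟩ : Der)) (lfA (⟨2, 534, 0, [], [⟨9, [], 132, 0,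 [3, 1, 5, 4, 5, 6, 4, 5]⟩, ⟨9, [117, 115], 133, 1, [1, 6, 8, 5, 4, 11]⟩, ⟨9, [123, 125, 129, 121], 142, 0, [6, 1, 9, 5, 2, 3, 11]⟩], 1⟩ : Der)))) (ndA (nat_lit 78) (ndA (nat_lit 77) (lfA (⟨2, 0, 0, [], [⟨0, [], 150, 0, []⟩], 1⟩ : Der)) (lfA (⟨2, 0, 0, [1, 2, 4, 5, 6, 4, 6, 5, 8, 11], [⟨0, [], 153, 1, []⟩, ⟨0, [121, 129, 125, 129], 142, 0, [1, 2, 4, 5, 6, 4, 6, 5, 8, 11]⟩], 1⟩ : Der))) (ndA (nat_lit 79) (lfA (⟨2, 533, 18, [], [⟨9, [], 133, 1, [2, 5, 2, 6, 4, 3, 8, 5, 2, 10]⟩, ⟨9, [], 142, 0, [6, 5, 6, 4, 6, 1, 11]⟩, ⟨9, [155, 147, 155, 145, 155], 143, 1, [3, 1, 2, 8, 5, 8, 10]⟩], 0⟩ : Der)) (lfA (⟨2, 0, 0, [], [⟨0, [], 156, 1, []⟩], 0⟩ : Der))))))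
noncomputable def DT5 : ℕ → Der := (ndA (nat_lit 88) (ndA (nat_lit 84) (ndA (nat_lit 82) (ndA (nat_lit 81) (lfA (⟨2, 533, 27, [], [⟨9, [], 142, 0, [4, 6, 1, 3, 2, 5, 6, 4]⟩, ⟨9, [154, 147, 154, 147, 154], 143, 1, [5, 6, 1, 4, 5, 4, 6, 1, 8, 10]⟩, ⟨9, [123, 125, 128, 127, 125, 123], 132, 0, [6, 5, 4, 6, 1, 8, 6, 11]⟩], 1⟩ : Der)) (lfA (⟨2, 0, 0, [], [⟨0, [], 160, 0, []⟩], 1⟩ : Der))) (ndA (nat_lit 83) (lfA (⟨2, 534, 27, [], [⟨9, [], 133, 1, [2, 3, 5, 4, 3, 6, 10]⟩, ⟨9, [], 142, 0, [3, 5, 2, 4, 6, 4, 8]⟩, ⟨9, [154, 149, 155, 148, 155], 143, 1, [2, 4, 3, 1, 6, 5, 2, 4, 3, 11]⟩], 0⟩ : Der)) (lfA (⟨2, 0, 0, [], [⟨0, [], 164, 1, []⟩], 0⟩ : Der)))) (ndA (nat_lit 86) (ndA (nat_lit 85) (lfA (⟨2, 533, 27,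 [], [⟨9, [], 142, 0, [5, 6, 1, 3, 4, 5, 6, 2, 5]⟩, ⟨9, [154, 148, 154, 154], 143, 1, [1, 2, 3, 5, 2, 4, 5, 6, 1, 3, 10]⟩, ⟨9, [120], 137, 0, [6, 5, 4, 8, 6, 4, 5, 4, 6, 2, 11]⟩], 1⟩ : Der)) (lfA (⟨2, 0, 0, [], [⟨0, [], 168, 0, []⟩], 1⟩ : Der))) (ndA (nat_lit 87) (lfA (⟨2, 534, 0, [], [⟨9, [], 159, 0, [3, 9, 5, 4, 5, 6, 1, 4, 3, 2, 10]⟩, ⟨9, [116, 116, 115], 133, 1, [6, 1, 5, 2, 6, 11]⟩, ⟨9, [129, 127, 123], 141, 0, [5, 4, 9, 5, 6, 1, 4, 6, 11]⟩], 1⟩ : Der)) (lfA (⟨2, 0, 0, [], [⟨0, [], 172, 0, []⟩], 1⟩ : Der))))) (ndA (nat_lit 92) (ndA (nat_lit 90) (ndA (nat_lit 89) (lfA (⟨2, 533, 18, [], [⟨9, [], 158, 1, [2, 6, 5, 4, 6, 2, 11]⟩, ⟨9, [123, 120, 123, 125, 121, 129, 121], 170, 0, [1, 5, 6, 2, 5, 4,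 6, 10]⟩, ⟨9, [101], 108, 1, [1, 2, 3, 6, 8, 6, 4, 3, 5, 8, 11]⟩], 0⟩ : Der)) (lfA (⟨2, 0, 0, [], [⟨0, [], 176, 1, []⟩], 0⟩ : Der))) (ndA (nat_lit 91) (lfA (⟨2, 533, 27, [], [⟨9, [], 179, 0, [1, 5, 2, 4, 6, 4, 8, 6, 4, 9, 6, 10]⟩, ⟨9, [112], 158, 1, [1, 2, 4, 9, 6, 1, 3, 11]⟩, ⟨9, [120, 129, 127, 123, 125, 123, 121], 132, 0, [2, 3, 1, 3, 2, 5, 4, 5, 6]⟩], 1⟩ : Der)) (lfA (⟨2, 0, 0, [], [⟨0, [], 180, 0, []⟩], 1⟩ : Der)))) (ndA (nat_lit 94) (ndA (nat_lit 93) (lfA (⟨2, 533, 0, [], [⟨9, [], 97, 1, [1, 6, 8, 6, 1, 4]⟩, ⟨9, [39, 43, 37, 41], 179, 0, [2, 4, 6, 8, 6, 4, 3, 5, 2, 11]⟩, ⟨9, [116], 158, 1, [1, 2, 5, 2, 6, 4, 8, 6, 5, 2, 10]⟩], 0⟩ : Der)) (lfA (⟨2, 0, 0, [], [⟨0, [], 184, 1, []⟩], 0⟩ : Der)))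 (ndA (nat_lit 95) (lfA (⟨2, 533, 9, [], [⟨9, [], 167, 0, [2, 5, 4, 3, 6, 1, 3, 2, 5, 4]⟩, ⟨9, [], 158, 1, [1, 4, 5, 4, 6, 8, 6, 4, 11]⟩, ⟨9, [125, 129, 125, 121, 129, 127], 187, 0, [6, 1, 3, 1, 2, 5, 4, 6, 5, 10]⟩], 1⟩ : Der)) (lfA (⟨2, 0, 0, [], [⟨0, [], 188, 0, []⟩], 1⟩ : Der))))))
noncomputable def DT6 : ℕ → Der := (ndA (nat_lit 104) (ndA (nat_lit 100) (ndA (nat_lit 98) (ndA (nat_lit 97) (lfA (⟨0, 0, 0, [], [], 1⟩ : Der)) (lfA (⟨2, 0, 0, [], [⟨0, [], 193, 1, [4, 8, 10]⟩, ⟨0, [128, 123], 192, 0, []⟩], 1⟩ : Der))) (ndA (nat_lit 99) (lfA (⟨2, 0, 0, [], [⟨0, [], 193, 1, [1, 5, 2, 3, 1, 3, 2, 5]⟩, ⟨0, [120, 120], 192, 0, []⟩], 1⟩ : Der)) (lfA (⟨2, 0, 0, [], [⟨0, [], 193, 1, [2, 6, 8, 5, 9]⟩, ⟨0, [120,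 126, 123, 121], 192, 0, []⟩], 1⟩ : Der)))) (ndA (nat_lit 102) (ndA (nat_lit 101) (lfA (⟨2, 533, 0, [], [⟨9, [], 193, 1, [6, 1, 3, 2, 4, 5, 4, 6, 4, 8]⟩, ⟨9, [129, 127, 125, 123], 167, 0, [5, 6, 4, 5, 2, 8, 5, 6, 4, 9, 11]⟩, ⟨9, [117, 117], 158, 1, [1, 3, 2, 4, 3, 6, 1, 11]⟩], 0⟩ : Der)) (lfA (⟨2, 0, 0, [], [⟨0, [], 200, 1, []⟩], 0⟩ : Der))) (ndA (nat_lit 103) (lfA (⟨2, 533, 27, [], [⟨9, [], 203, 0, [2, 4, 5, 2, 6, 4, 6, 5, 2]⟩, ⟨9, [], 193, 1, [1, 3, 2, 6, 1, 4, 5, 6, 1, 4, 10]⟩, ⟨9, [125, 121, 129, 123], 203, 0, [5, 4, 8, 5, 2, 4, 3, 2, 1, 10]⟩], 1⟩ : Der)) (lfA (⟨2, 0, 0, [], [⟨0, [], 204, 0, []⟩], 1⟩ : Der))))) (ndA (nat_lit 108) (ndA (nat_lit 106) (ndA (nat_lit 105) (lfA (⟨2, 534, 27, [], [⟨9,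 [], 207, 1, [4, 5, 6, 1, 4, 3, 2, 8, 6, 10]⟩, ⟨9, [125, 121, 121], 203, 0, [1, 2, 5, 4, 6, 2, 3, 1, 4, 3]⟩, ⟨9, [], 193, 1, [4, 3, 1, 2, 3, 6, 1, 10]⟩], 0⟩ : Der)) (lfA (⟨2, 0, 0, [], [⟨0, [], 208, 1, []⟩], 0⟩ : Der))) (ndA (nat_lit 107) (lfA (⟨2, 534, 9, [], [⟨9, [], 210, 1, [1, 2, 3, 2, 3, 1]⟩, ⟨9, [127, 123], 192, 0, [1, 4, 6, 1, 3, 2, 10]⟩, ⟨9, [199, 197], 202, 1, [1, 2, 5, 2, 4, 3, 6, 1, 4, 3]⟩], 0⟩ : Der)) (lfA (⟨2, 0, 0, [], [⟨0, [], 212, 1, []⟩], 0⟩ : Der)))) (ndA (nat_lit 110) (ndA (nat_lit 109) (lfA (⟨2, 534, 27, [], [⟨9, [], 210, 1, [1, 4, 6, 4, 5, 8, 5, 2, 8, 10]⟩, ⟨9, [121, 129, 123, 125, 129, 121, 129, 125], 203, 0, [1, 4, 5, 4, 6, 9, 6, 4, 6, 10]⟩, ⟨9, [], 193, 1, [2, 4, 5, 6, 2,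 4]⟩], 0⟩ : Der)) (lfA (⟨2, 0, 0, [], [⟨0, [], 216, 1, []⟩], 0⟩ : Der))) (ndA (nat_lit 111) (lfA (⟨2, 534, 27, [], [⟨9, [], 202, 1, [3, 4, 8, 6, 1, 5, 6, 8, 10]⟩, ⟨9, [125, 120, 123, 121], 174, 0, [1, 5, 4, 6, 1, 5, 4, 9, 5]⟩, ⟨9, [93, 79], 87, 1, [3, 9, 5, 4, 6, 5, 4, 10]⟩], 0⟩ : Der)) (lfA (⟨2, 0, 0, [], [⟨0, [], 220, 1, []⟩], 0⟩ : Der))))))
noncomputable def DT7 : ℕ → Der := (ndA (nat_lit 120) (ndA (nat_lit 116) (ndA (nat_lit 114) (ndA (nat_lit 113) (lfA (⟨0, 0, 0, [], [], 1⟩ : Der)) (lfA (⟨2, 0, 0, [], [⟨0, [], 225, 1, [2, 4, 3, 1, 2, 3, 9, 10]⟩, ⟨0, [44, 36], 224, 0, []⟩], 1⟩ : Der))) (ndA (nat_lit 115) (lfA (⟨2, 534, 9, [], [⟨9, [], 225, 1, [5, 2, 4, 3, 6, 1, 4, 6, 5, 4, 10]⟩, ⟨9, [38, 41,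 45, 38, 40], 223, 0, [3, 2, 3, 1, 4, 5, 4, 6, 4]⟩, ⟨9, [199, 195], 218, 1, [1, 8, 6, 1, 4, 8, 6, 5, 4, 11]⟩], 0⟩ : Der)) (lfA (⟨2, 0, 0, [], [⟨0, [], 228, 1, []⟩], 0⟩ : Der)))) (ndA (nat_lit 118) (ndA (nat_lit 117) (lfA (⟨2, 533, 27, [], [⟨9, [], 203, 0, [4, 5, 4, 6, 4, 3, 5, 2, 11]⟩, ⟨9, [199, 197], 222, 1, [1, 2, 5, 4, 6, 5, 1, 2, 4, 3, 11]⟩, ⟨9, [42, 41, 39], 224, 0, [4, 5, 2, 6, 1, 4, 6, 8, 6]⟩], 1⟩ : Der)) (lfA (⟨2, 0, 0, [], [⟨0, [], 232, 0, []⟩], 1⟩ : Der))) (ndA (nat_lit 119) (lfA (⟨2, 533, 9, [], [⟨9, [], 46, 0, [5, 4, 6, 5, 9, 6, 4]⟩, ⟨9, [], 97, 1, [4, 3, 2, 5, 2, 9, 6, 4, 10]⟩, ⟨9, [40, 36, 39], 224, 0, [3, 1, 5, 2, 4, 6, 5, 9, 10]⟩], 1⟩ : Der)) (lfA (⟨2, 0, 0, [], [⟨0, [], 236, 0, []⟩],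 1⟩ : Der))))) (ndA (nat_lit 124) (ndA (nat_lit 122) (ndA (nat_lit 121) (lfA (⟨2, 533, 18, [], [⟨9, [], 225, 1, [3, 1, 2, 9, 6, 5, 10]⟩, ⟨9, [45, 41, 45, 41, 38, 36], 224, 0, [1, 6, 1, 8, 6, 4, 5, 2, 6, 4]⟩, ⟨9, [], 230, 1, [8, 5, 2, 3, 9, 6, 4, 5, 6, 4]⟩], 0⟩ : Der)) (lfA (⟨2, 0, 0, [], [⟨0, [], 240, 1, []⟩], 0⟩ : Der))) (ndA (nat_lit 123) (lfA (⟨2, 534, 18, [], [⟨9, [], 224, 0, [1, 4, 6, 4, 9, 5, 2, 10]⟩, ⟨9, [227], 242, 1, [3, 1, 5, 2, 6, 4, 5, 8, 10]⟩, ⟨9, [128, 125, 129, 125, 123], 231, 0, [1, 3, 2, 4, 5, 4, 3, 6, 1, 3, 11]⟩], 1⟩ : Der)) (lfA (⟨2, 0, 0, [], [⟨0, [], 244, 0, []⟩], 1⟩ : Der)))) (ndA (nat_lit 126) (ndA (nat_lit 125) (lfA (⟨2, 0, 0, [1, 2, 6, 4, 5, 1, 2, 3, 1, 12, 2, 8, 12, 6, 11,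 12, 2], [⟨0, [], 247, 1, []⟩, ⟨0, [40, 38, 40], 238, 0, [1, 4, 3, 10]⟩], 1⟩ : Der)) (lfA (⟨2, 533, 0, [], [⟨9, [], 239, 1, [2, 3, 1, 2, 4, 6, 5, 1, 10]⟩, ⟨9, [36, 42, 41, 37], 224, 0, [6, 4, 3, 9, 5, 2, 11]⟩, ⟨9, [227], 230, 1, [2, 6, 1, 4, 5, 2, 3, 1]⟩], 0⟩ : Der))) (ndA (nat_lit 127) (lfA (⟨2, 0, 0, [], [⟨0, [], 250, 1, []⟩], 0⟩ : Der)) (lfA (⟨0, 0, 0, [], [], 0⟩ : Der))))))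
noncomputable def DT8 : ℕ → Der := (ndA (nat_lit 136) (ndA (nat_lit 132) (ndA (nat_lit 130) (ndA (nat_lit 129) (lfA (⟨2, 0, 0, [], [⟨0, [], 255, 0, [1, 4, 6, 8, 6, 4, 5, 2, 9, 5]⟩, ⟨0, [112], 254, 1, []⟩], 0⟩ : Der)) (lfA (⟨2, 0, 0, [], [⟨0, [], 255, 0, [2, 5, 2, 4, 6, 8, 6, 4, 11]⟩, ⟨0, [114], 254, 1, []⟩], 0⟩ : Der))) (ndA (nat_lit 131) (lfA (⟨2, 0, 0, [], [⟨0, [], 255, 0, [2, 4, 5, 4, 6, 8, 6, 8]⟩, ⟨0, [116], 254, 1, []⟩], 0⟩ : Der)) (lfA (⟨2, 534, 0, [], [⟨9, [], 255, 0, [8, 5, 2, 6, 4, 3, 5, 1, 6]⟩, ⟨9, [], 111, 1, [3, 1, 2, 5, 4, 3, 8, 5]⟩, ⟨9, [59, 64, 71, 56, 71], 98, 0, [6, 4, 8, 6, 4, 5, 2, 9, 5, 11]⟩], 1⟩ : Der)))) (ndA (nat_lit 134) (ndA (nat_lit 133) (lfA (⟨2, 0, 0, [], [⟨0, [], 262,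 0, []⟩], 1⟩ : Der)) (lfA (⟨2, 533, 0, [], [⟨9, [], 111, 1, [1, 2, 6, 4, 3, 5, 9, 11]⟩, ⟨9, [58, 70, 64, 58, 71], 110, 0, [1, 3, 1, 4, 5, 6, 4, 5, 8, 5, 2, 11]⟩, ⟨9, [], 254, 1, [1, 2, 4, 6, 4, 8, 6, 11]⟩], 0⟩ : Der))) (ndA (nat_lit 135) (lfA (⟨2, 0, 0, [], [⟨0, [], 266, 1, []⟩], 0⟩ : Der)) (lfA (⟨2, 534, 27, [], [⟨9, [], 111, 1, [1, 3, 1, 2, 6, 5, 4, 9, 11]⟩, ⟨9, [57, 70, 65, 62, 57], 110, 0, [5, 6, 4, 8, 6, 5, 4, 6, 8, 10]⟩, ⟨9, [], 254, 1, [1, 3, 1, 4, 5, 2, 6, 1, 3, 11]⟩], 0⟩ : Der))))) (ndA (nat_lit 140) (ndA (nat_lit 138) (ndA (nat_lit 137) (lfA (⟨2, 0, 0, [], [⟨0, [], 270, 1, []⟩], 0⟩ : Der)) (lfA (⟨2, 534, 0, [], [⟨9, [], 273, 0, [2, 6, 4, 5, 1, 6, 1, 11]⟩, ⟨9, [], 254, 1, [5, 2, 6, 8, 6,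 4, 9, 5, 2]⟩, ⟨9, [260, 260], 269, 0, [1, 3, 4, 3, 2, 8, 11]⟩], 1⟩ : Der))) (ndA (nat_lit 139) (lfA (⟨2, 0, 0, [], [⟨0, [], 274, 0, []⟩], 1⟩ : Der)) (lfA (⟨2, 533, 27, [], [⟨9, [], 273, 0, [8, 5, 2, 4, 9, 6, 5, 4, 3]⟩, ⟨9, [], 254, 1, [1, 2, 8, 6, 5, 4, 3, 5, 10]⟩, ⟨9, [261, 259], 264, 0, [2, 6, 1, 5, 4, 9, 6, 5, 2, 11]⟩], 1⟩ : Der)))) (ndA (nat_lit 142) (ndA (nat_lit 141) (lfA (⟨2, 0, 0, [], [⟨0, [], 278, 0, []⟩], 1⟩ : Der)) (lfA (⟨2, 534, 9, [], [⟨9, [], 281, 1, [1, 4, 6, 4, 5, 2, 4, 9, 5, 6, 10]⟩, ⟨9, [], 255, 0, [2, 5, 4, 8, 6, 5, 1, 4, 6, 11]⟩, ⟨9, [116, 116], 272, 1, [2, 6, 4, 5, 2, 8, 5, 6, 4, 10]⟩], 0⟩ : Der))) (ndA (nat_lit 143) (lfA (⟨2, 0, 0, [], [⟨0, [], 282, 1, []⟩], 0⟩ : Der)) (lfA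 (⟨2, 534, 27, [], [⟨9, [], 73, 1, [1, 8, 5, 6, 1, 8, 5, 4]⟩, ⟨9, [62, 61, 71, 58], 110, 0, [6, 1, 9, 5, 4, 6, 11]⟩, ⟨9, [], 254, 1, [1, 6, 1, 4, 9, 5, 2, 10]⟩], 0⟩ : Der))))))
noncomputable def DT9 : ℕ → Der := (ndA (nat_lit 152) (ndA (nat_lit 148) (ndA (nat_lit 146) (ndA (nat_lit 145) (lfA (⟨2, 0, 0, [], [⟨0, [], 286, 1, []⟩], 0⟩ : Der)) (lfA (⟨2, 533, 27, [], [⟨9, [], 289, 0, [2, 4, 5, 8, 5, 2]⟩, ⟨9, [75], 288, 1, [2, 3, 1, 3, 2, 4, 3, 10]⟩, ⟨9, [], 255, 0, [2, 4, 3, 6, 8, 11]⟩], 1⟩ : Der))) (ndA (nat_lit 147) (lfA (⟨2, 0, 0, [], [⟨0, [], 290, 0, []⟩], 1⟩ : Der)) (lfA (⟨2, 533, 18, [], [⟨9, [], 111, 1, [1, 2, 6, 1, 4, 3, 1, 11]⟩, ⟨9, [71, 61, 62, 64], 110, 0, [1, 2, 5, 2, 4, 3, 8, 5, 4]⟩, ⟨9,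 [], 254, 1, [1, 5, 4, 3, 6, 2, 1, 4, 3, 2]⟩], 0⟩ : Der)))) (ndA (nat_lit 150) (ndA (nat_lit 149) (lfA (⟨2, 0, 0, [], [⟨0, [], 294, 1, []⟩], 0⟩ : Der)) (lfA (⟨2, 533, 27, [], [⟨9, [], 255, 0, [2, 5, 2, 4, 6, 4, 3, 5, 2, 9, 10]⟩, ⟨9, [], 111, 1, [4, 6, 1, 5, 8, 5, 2]⟩, ⟨9, [70, 60, 65, 59, 57], 72, 0, [1, 4, 6, 8, 5, 9, 11]⟩], 1⟩ : Der))) (ndA (nat_lit 151) (lfA (⟨2, 0, 0, [], [⟨0, [], 298, 0, []⟩], 1⟩ : Der)) (lfA (⟨2, 533, 27, [], [⟨9, [], 264, 0, [8, 6, 1, 4, 3, 1, 8, 10]⟩, ⟨9, [103, 101], 136, 1, [1, 2, 3, 5, 2, 4, 6, 4, 5, 9]⟩, ⟨9, [121, 123, 121, 129, 121], 215, 0, [1, 3, 2, 5, 4, 9, 6, 1, 4, 11]⟩], 1⟩ : Der))))) (ndA (nat_lit 156) (ndA (nat_lit 154) (ndA (nat_lit 153) (lfA (⟨2, 0, 0, [], [⟨0,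 [], 302, 0, []⟩], 1⟩ : Der)) (lfA (⟨2, 533, 0, [], [⟨9, [], 207, 1, [2, 4, 9, 5, 4, 3, 11]⟩, ⟨9, [120, 129, 123, 125, 129], 137, 0, [5, 4, 6, 2, 1, 4, 3, 1, 11]⟩, ⟨9, [101, 102], 265, 1, [2, 5, 4, 6, 1, 8, 5, 2, 3, 10]⟩], 0⟩ : Der))) (ndA (nat_lit 155) (lfA (⟨2, 0, 0, [], [⟨0, [], 306, 1, []⟩], 0⟩ : Der)) (lfA (⟨2, 534, 9, [], [⟨9, [], 214, 1, [1, 3, 2, 6, 1, 4, 5, 2, 6, 9, 10]⟩, ⟨9, [123, 120, 129, 125, 121, 123, 121], 137, 0, [4, 5, 4, 6, 9, 5, 6]⟩, ⟨9, [101, 102], 265, 1, [6, 1, 4, 3, 1, 2, 5]⟩], 0⟩ : Der)))) (ndA (nat_lit 158) (ndA (nat_lit 157) (lfA (⟨2, 0, 0, [], [⟨0, [], 310, 1, []⟩], 0⟩ : Der)) (lfA (⟨2, 533, 27, [], [⟨9, [], 264, 0, [1, 3, 2, 4, 8, 6, 4, 9, 6, 4, 5]⟩, ⟨9, [103, 101], 136,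 1, [3, 1, 3, 2, 4, 3, 10]⟩, ⟨9, [120, 123, 125], 137, 0, [5, 6, 8, 6, 4, 5, 6, 4, 5, 10]⟩], 1⟩ : Der))) (ndA (nat_lit 159) (lfA (⟨2, 0, 0, [], [⟨0, [], 314, 0, []⟩], 1⟩ : Der)) (lfA (⟨2, 534, 27, [], [⟨9, [], 214, 1, [1, 4, 3, 5, 9, 5, 4, 3, 10]⟩, ⟨9, [120, 129, 123, 125, 123, 121], 170, 0, [3, 2, 6, 4, 3, 1, 5, 6, 2, 4, 5, 10]⟩, ⟨9, [103, 101, 103, 101], 265, 1, [1, 3, 5, 2, 4, 3, 5, 8, 5, 4]⟩], 0⟩ : Der))))))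
noncomputable def DT10 : ℕ → Der := (ndA (nat_lit 168) (ndA (nat_lit 164) (ndA (nat_lit 162) (ndA (nat_lit 161) (lfA (⟨2, 0, 0, [], [⟨0, [], 318, 1, []⟩], 0⟩ : Der)) (lfA (⟨2, 0, 0, [6, 5, 7, 6, 2, 5, 7, 6, 3, 4, 5, 7, 11, 2, 5, 6, 4, 6, 8, 6, 4], [⟨0, [], 321, 0, []⟩, ⟨0, [195], 308, 1, [1, 6, 8, 6, 11]⟩], 0⟩ : Der))) (ndA (nat_lit 163) (lfA (⟨2, 533, 0, [], [⟨9, [], 158, 1, [2, 3, 1, 4, 5, 2, 6, 1, 9, 10]⟩, ⟨9, [129, 121, 123, 125, 121], 170, 0, [2, 6, 1, 4, 9, 5]⟩, ⟨9, [103], 265, 1, [1, 6, 4, 8, 5, 4, 6, 4, 3, 10]⟩], 0⟩ : Der)) (lfA (⟨2, 0, 0, [], [⟨0, [], 324, 1, []⟩], 0⟩ : Der)))) (ndA (nat_lit 166) (ndA (nat_lit 165) (lfA (⟨2, 534, 9, [], [⟨9, [], 308, 1, [4, 6, 8, 6, 1, 8, 5, 4, 10]⟩, ⟨9,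 [257, 323, 323, 323, 259], 264, 0, [2, 3, 1, 3, 2, 5, 4, 9, 11]⟩, ⟨9, [103], 317, 1, [2, 5, 2, 3, 4, 6, 5, 1, 11]⟩], 0⟩ : Der)) (lfA (⟨2, 0, 0, [], [⟨0, [], 328, 1, []⟩], 0⟩ : Der))) (ndA (nat_lit 167) (lfA (⟨2, 534, 9, [], [⟨9, [], 207, 1, [2, 8, 5, 2, 3, 9, 11]⟩, ⟨9, [129, 123, 125, 129, 125], 170, 0, [1, 2, 5, 6, 4, 3, 5, 2, 9, 11]⟩, ⟨9, [102, 101, 103, 101], 265, 1, [2, 3, 1, 4, 8, 6, 5, 8]⟩], 0⟩ : Der)) (lfA (⟨2, 0, 0, [], [⟨0, [], 332, 1, []⟩], 0⟩ : Der))))) (ndA (nat_lit 172) (ndA (nat_lit 170) (ndA (nat_lit 169) (lfA (⟨2, 534, 0, [], [⟨9, [], 264, 0, [1, 2, 4, 5, 4, 6, 5, 4, 10]⟩, ⟨9, [101], 171, 1, [1, 3, 1, 2, 5, 4, 6, 4, 8, 5]⟩, ⟨9, [128, 125, 129, 121, 129, 125, 123], 231, 0, [1, 3,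 1, 4, 6, 8, 10]⟩], 1⟩ : Der)) (lfA (⟨2, 0, 0, [], [⟨0, [], 336, 0, []⟩], 1⟩ : Der))) (ndA (nat_lit 171) (lfA (⟨2, 534, 9, [], [⟨9, [], 339, 1, [3, 4, 3, 1, 2, 6, 9, 10]⟩, ⟨9, [256, 322], 264, 0, [4, 5, 2, 6, 4, 5, 10]⟩, ⟨9, [104, 101], 317, 1, [2, 4, 6, 5, 2, 4, 6, 5, 8]⟩], 0⟩ : Der)) (lfA (⟨2, 0, 0, [], [⟨0, [], 340, 1, []⟩], 0⟩ : Der)))) (ndA (nat_lit 174) (ndA (nat_lit 173) (lfA (⟨2, 533, 18, [], [⟨9, [], 308, 1, [9, 5, 4, 6, 1, 4, 3]⟩, ⟨9, [323, 259, 257, 323, 256], 316, 0, [1, 4, 6, 8, 6, 4, 5, 1, 3]⟩, ⟨9, [103, 101], 265, 1, [5, 4, 3, 6, 1, 8, 6]⟩], 0⟩ : Der)) (lfA (⟨2, 0, 0, [], [⟨0, [], 344, 1, []⟩], 0⟩ : Der))) (ndA (nat_lit 175) (lfA (⟨2, 534, 18, [], [⟨9, [], 264, 0, [5, 2, 4, 3, 6, 4,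 5, 10]⟩, ⟨9, [103, 101], 136, 1, [1, 5, 6, 4, 6, 5, 2, 4, 3]⟩, ⟨9, [125, 129, 127, 121, 123, 121], 253, 0, [4, 3, 9, 6, 1, 3, 4]⟩], 1⟩ : Der)) (lfA (⟨2, 0, 0, [], [⟨0, [], 348, 0, []⟩], 1⟩ : Der))))))
noncomputable def DT11 : ℕ → Der := (ndA (nat_lit 184) (ndA (nat_lit 180) (ndA (nat_lit 178) (ndA (nat_lit 177) (lfA (⟨2, 533, 27, [], [⟨9, [], 264, 0, [1, 2, 5, 4, 6, 4, 8, 6, 1, 4, 11]⟩, ⟨9, [102, 101, 103], 284, 1, [4, 6, 4, 9, 6, 5, 2, 4, 5]⟩, ⟨9, [257, 322, 256, 322], 304, 0, [2, 3, 5, 2, 4, 3, 9, 6]⟩], 1⟩ : Der)) (lfA (⟨2, 0, 0, [], [⟨0, [], 352, 0, []⟩], 1⟩ : Der))) (ndA (nat_lit 179) (lfA (⟨2, 533, 0, [], [⟨9, [], 334, 1, [1, 4, 5, 2, 6, 5, 1, 4, 6, 11]⟩, ⟨9, [323, 257, 323, 261], 264, 0, [2,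 5, 6, 1, 4, 3, 1, 2, 11]⟩, ⟨9, [103], 265, 1, [4, 3, 2, 6, 1, 5, 6, 11]⟩], 0⟩ : Der)) (lfA (⟨2, 0, 0, [], [⟨0, [], 356, 1, []⟩], 0⟩ : Der)))) (ndA (nat_lit 182) (ndA (nat_lit 181) (lfA (⟨2, 534, 9, [], [⟨9, [], 252, 1, [6, 4, 8, 5, 2, 8, 6, 5, 4, 5, 11]⟩, ⟨9, [123, 125, 129, 127, 125, 121], 170, 0, [1, 2, 5, 2, 6, 4, 3, 9, 5, 2, 11]⟩, ⟨9, [103, 103, 101], 265, 1, [4, 5, 2, 6, 1, 4, 3, 5, 2, 8, 10]⟩], 0⟩ : Der)) (lfA (⟨2, 0, 0, [], [⟨0, [], 360, 1, []⟩], 0⟩ : Der))) (ndA (nat_lit 183) (lfA (⟨2, 534, 18, [], [⟨9, [], 313, 0, [5, 6, 4, 5, 6, 9, 6, 10]⟩, ⟨9, [], 305, 1, [2, 8, 5, 6, 1, 9]⟩, ⟨9, [257, 323, 323, 323, 259], 264, 0, [4, 5, 4, 6, 5, 1, 4, 3, 10]⟩], 1⟩ : Der)) (lfA (⟨2, 0, 0, [], [⟨0, [],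 364, 0, []⟩], 1⟩ : Der))))) (ndA (nat_lit 188) (ndA (nat_lit 186) (ndA (nat_lit 185) (lfA (⟨2, 533, 9, [], [⟨9, [], 264, 0, [1, 4, 5, 2, 4, 3, 1, 6, 10]⟩, ⟨9, [105, 101, 103, 101], 367, 1, [2, 3, 1, 4, 5, 2, 9, 5]⟩, ⟨9, [259, 256, 322, 259], 297, 0, [1, 2, 6, 5, 4, 6, 2, 5, 10]⟩], 1⟩ : Der)) (lfA (⟨2, 0, 0, [], [⟨0, [], 368, 0, []⟩], 1⟩ : Der))) (ndA (nat_lit 187) (lfA (⟨2, 533, 9, [], [⟨9, [], 359, 0, [1, 2, 6, 4, 5, 4, 6, 1, 3]⟩, ⟨9, [199, 197], 330, 1, [2, 4, 6, 1, 3, 2, 5, 4, 5, 11]⟩, ⟨9, [322, 259, 323, 323], 264, 0, [3, 1, 2, 4, 3, 1, 2, 6, 5, 4, 3, 11]⟩], 1⟩ : Der)) (lfA (⟨2, 0, 0, [], [⟨0, [], 372, 0, []⟩], 1⟩ : Der)))) (ndA (nat_lit 190) (ndA (nat_lit 189) (lfA (⟨2, 534, 27, [], [⟨9, [],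 339, 1, [4, 5, 4, 5, 6, 1]⟩, ⟨9, [259, 323, 257, 322, 257], 366, 0, [1, 2, 4, 6, 8, 6, 4, 5, 8, 5]⟩, ⟨9, [101, 103, 101], 265, 1, [1, 4, 6, 8, 6, 4, 5, 2, 8, 5, 4, 11]⟩], 0⟩ : Der)) (lfA (⟨2, 0, 0, [], [⟨0, [], 376, 1, []⟩], 0⟩ : Der))) (ndA (nat_lit 191) (lfA (⟨2, 533, 18, [], [⟨9, [], 339, 1, [1, 5, 2, 4, 3, 5, 2, 10]⟩, ⟨9, [322, 322, 256, 323, 259], 264, 0, [2, 8, 5, 2, 4, 8, 6, 5, 4, 6, 5]⟩, ⟨9, [104, 101, 102], 317, 1, [3, 2, 5, 4, 8, 6, 1, 4, 10]⟩], 0⟩ : Der)) (lfA (⟨2, 0, 0, [], [⟨0, [], 380, 1, []⟩], 0⟩ : Der))))))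
noncomputable def DT12 : ℕ → Der := (ndA (nat_lit 200) (ndA (nat_lit 196) (ndA (nat_lit 194) (ndA (nat_lit 193) (lfA (⟨2, 533, 9, [], [⟨9, [], 264, 0, [6, 1, 4, 5, 9, 10]⟩, ⟨9, [], 281, 1, [1, 3, 6, 4, 9, 10]⟩, ⟨9, [260, 260, 259, 257], 343, 0, [2, 5, 2, 6, 4, 5, 8, 5, 4, 6, 9, 11]⟩], 1⟩ : Der)) (lfA (⟨2, 0, 0, [], [⟨0, [], 384, 0, []⟩], 1⟩ : Der))) (ndA (nat_lit 195) (lfA (⟨2, 534, 9, [], [⟨9, [], 371, 1, [1, 2, 3, 8, 5, 2, 4, 5, 6, 4, 11]⟩, ⟨9, [323, 260, 257], 316, 0, [2, 3, 5, 2, 4, 6, 5, 2, 10]⟩, ⟨9, [], 265, 1, [6, 1, 4, 6, 8, 5, 2, 11]⟩], 0⟩ : Der)) (lfA (⟨2, 0, 0, [], [⟨0, [], 388, 1, []⟩], 0⟩ : Der)))) (ndA (nat_lit 198) (ndA (nat_lit 197) (lfA (⟨2, 534, 0, [], [⟨9, [], 264, 0, [8, 6, 1,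 3, 8, 5, 4, 3]⟩, ⟨9, [103, 101, 103], 375, 1, [4, 3, 2, 6, 1, 4, 5, 6, 4, 9, 11]⟩, ⟨9, [259, 323, 257, 323, 256, 322], 359, 0, [6, 1, 4, 5, 2, 6, 5, 9, 11]⟩], 1⟩ : Der)) (lfA (⟨2, 0, 0, [], [⟨0, [], 392, 0, []⟩], 1⟩ : Der))) (ndA (nat_lit 199) (lfA (⟨2, 533, 27, [], [⟨9, [], 264, 0, [1, 6, 4, 5, 2, 6, 4, 8, 5, 2, 6, 5, 11]⟩, ⟨9, [104, 103], 171, 1, [6, 8, 5, 4, 6, 4, 9, 6, 4, 5]⟩, ⟨9, [120, 123], 253, 0, [4, 6, 8, 6, 4, 8, 5, 11]⟩], 1⟩ : Der)) (lfA (⟨2, 0, 0, [], [⟨0, [], 396, 0, []⟩], 1⟩ : Der))))) (ndA (nat_lit 204) (ndA (nat_lit 202) (ndA (nat_lit 201) (lfA (⟨2, 533, 0, [], [⟨9, [], 268, 1, [3, 2, 4, 8, 5, 6, 1, 4, 5, 11]⟩, ⟨9, [259, 323, 257, 323, 257], 366, 0, [4, 8, 5, 2, 6, 4, 3, 1, 11]⟩,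 ⟨9, [103, 103, 101], 265, 1, [3, 2, 4, 5, 6, 1, 4, 6, 9, 6]⟩], 0⟩ : Der)) (lfA (⟨2, 0, 0, [], [⟨0, [], 400, 1, []⟩], 0⟩ : Der))) (ndA (nat_lit 203) (lfA (⟨2, 533, 18, [], [⟨9, [], 378, 1, [4, 3, 2, 5, 6, 4, 6, 5, 1, 2]⟩, ⟨9, [256, 322, 256, 322, 260], 264, 0, [4, 5, 2, 6, 8, 6, 8, 10]⟩, ⟨9, [103], 265, 1, [1, 4, 6, 4, 5, 9, 5, 2, 4, 5, 10]⟩], 0⟩ : Der)) (lfA (⟨2, 0, 0, [], [⟨0, [], 404, 1, []⟩], 0⟩ : Der)))) (ndA (nat_lit 206) (ndA (nat_lit 205) (lfA (⟨2, 533, 18, [], [⟨9, [], 339, 1, [1, 6, 4, 8, 5, 6, 4, 5, 8, 5]⟩, ⟨9, [256, 323, 260, 256], 316, 0, [2, 5, 4, 8, 5, 2, 6, 1, 3, 10]⟩, ⟨9, [103, 103, 101], 265, 1, [3, 6, 1, 4, 5, 6, 8, 5]⟩], 0⟩ : Der)) (lfA (⟨2, 0, 0, [], [⟨0, [], 408, 1, []⟩], 0⟩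 : Der))) (ndA (nat_lit 207) (lfA (⟨2, 534, 9, [], [⟨9, [], 225, 1, [2, 4, 5, 4, 6, 1, 3, 2, 4, 10]⟩, ⟨9, [41, 45, 38, 37], 109, 0, [1, 4, 6, 1, 3, 2, 4, 5, 4, 9]⟩, ⟨9, [101, 103], 265, 1, [8, 5, 2, 3, 1, 4, 6, 9]⟩], 0⟩ : Der)) (lfA (⟨2, 0, 0, [], [⟨0, [], 412, 1, []⟩], 0⟩ : Der))))))
noncomputable def DT13 : ℕ → Der := (ndA (nat_lit 216) (ndA (nat_lit 212) (ndA (nat_lit 210) (ndA (nat_lit 209) (lfA (⟨2, 534, 27, [], [⟨9, [], 351, 1, [1, 3, 2, 3, 1, 4, 3, 6, 4, 9, 11]⟩, ⟨9, [322, 256, 322, 259, 323, 260], 264, 0, [1, 3, 2, 4, 6, 5, 4, 9, 10]⟩, ⟨9, [105, 103], 317, 1, [2, 4, 5, 4, 6, 9, 5]⟩], 0⟩ : Der)) (lfA (⟨2, 0, 0, [], [⟨0, [], 416, 1, []⟩], 0⟩ : Der))) (ndA (nat_lit 211) (lfA (⟨2, 534, 27, [],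 [⟨9, [], 395, 1, [1, 4, 3, 5, 2, 9, 6]⟩, ⟨9, [323, 261], 264, 0, [3, 2, 6, 5, 4, 5, 6, 1, 3, 2, 11]⟩, ⟨9, [102, 101, 103], 265, 1, [2, 3, 5, 2, 4, 8, 5, 6, 1, 4, 11]⟩], 0⟩ : Der)) (lfA (⟨2, 0, 0, [], [⟨0, [], 420, 1, []⟩], 0⟩ : Der)))) (ndA (nat_lit 214) (ndA (nat_lit 213) (lfA (⟨2, 533, 27, [], [⟨9, [], 264, 0, [1, 4, 6, 5, 2, 3, 1, 4, 5, 6, 10]⟩, ⟨9, [101], 281, 1, [4, 3, 2, 6, 1, 4, 6]⟩, ⟨9, [322, 256, 322, 256], 363, 0, [5, 6, 1, 3, 4, 3, 2, 5]⟩], 1⟩ : Der)) (lfA (⟨2, 0, 0, [], [⟨0, [], 424, 0, []⟩], 1⟩ : Der))) (ndA (nat_lit 215) (lfA (⟨2, 533, 18, [], [⟨9, [], 371, 1, [1, 3, 2, 4, 5, 6, 4, 5, 1, 6, 1, 10]⟩, ⟨9, [259, 322, 259], 264, 0, [3, 1, 4, 6, 9, 6, 10]⟩, ⟨9, [], 317, 1, [3, 1, 2, 3,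 6, 4, 6, 1, 5, 2, 4]⟩], 0⟩ : Der)) (lfA (⟨2, 0, 0, [], [⟨0, [], 428, 1, []⟩], 0⟩ : Der))))) (ndA (nat_lit 220) (ndA (nat_lit 218) (ndA (nat_lit 217) (lfA (⟨2, 534, 18, [], [⟨9, [], 366, 0, [1, 3, 6, 9, 6, 4, 5]⟩, ⟨9, [101, 102, 101], 265, 1, [2, 5, 8, 5, 4, 6, 1, 9, 10]⟩, ⟨9, [257, 322, 260, 260], 411, 0, [3, 1, 3, 2, 4, 3, 5, 1, 11]⟩], 1⟩ : Der)) (lfA (⟨2, 0, 0, [], [⟨0, [], 432, 0, []⟩], 1⟩ : Der))) (ndA (nat_lit 219) (lfA (⟨2, 534, 0, [], [⟨9, [], 316, 0, [1, 3, 1, 2, 4, 6, 4, 5, 4, 8]⟩, ⟨9, [102], 265, 1, [6, 4, 8, 6, 4, 5, 2, 4, 9, 11]⟩, ⟨9, [257, 323, 323, 323], 419, 0, [3, 6, 8, 6, 4, 6, 5, 9, 10]⟩], 1⟩ : Der)) (lfA (⟨2, 0, 0, [], [⟨0, [], 436, 0, []⟩], 1⟩ : Der)))) (ndA (nat_lit 222) (ndA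 (nat_lit 221) (lfA (⟨2, 533, 18, [], [⟨9, [], 395, 1, [2, 4, 8, 6, 4, 8, 6, 4, 5, 8, 5]⟩, ⟨9, [257, 323, 257, 323, 261], 264, 0, [1, 2, 8, 6, 5, 4, 6, 2, 10]⟩, ⟨9, [103, 101, 103], 375, 1, [1, 2, 4, 8, 6, 5, 4, 6, 4, 10]⟩], 0⟩ : Der)) (lfA (⟨2, 0, 0, [], [⟨0, [], 440, 1, []⟩], 0⟩ : Der))) (ndA (nat_lit 223) (lfA (⟨2, 534, 18, [], [⟨9, [], 264, 0, [4, 3, 1, 5, 2, 3, 4, 3, 10]⟩, ⟨9, [104], 317, 1, [3, 4, 6, 4, 5, 2, 4, 3, 2, 10]⟩, ⟨9, [323, 323], 411, 0, [1, 8, 5, 6, 4, 5, 6, 1, 3, 4, 10]⟩], 1⟩ : Der)) (lfA (⟨2, 0, 0, [], [⟨0, [], 444, 0, []⟩], 1⟩ : Der))))))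
noncomputable def DT14 : ℕ → Der := (ndA (nat_lit 230) (ndA (nat_lit 227) (ndA (nat_lit 225) (lfA (⟨2, 534, 27, [], [⟨9, [], 399, 1, [2, 3, 1, 4, 9, 6, 5, 4, 6, 10]⟩, ⟨9, [256, 322, 260], 264, 0, [1, 6, 4, 5, 8, 6, 1]⟩, ⟨9, [104, 102, 101], 367, 1, [1, 2, 8, 5, 6, 4, 8, 5, 4, 6, 4]⟩], 0⟩ : Der)) (ndA (nat_lit 226) (lfA (⟨2, 0, 0, [], [⟨0, [], 448, 1, []⟩], 0⟩ : Der)) (lfA (⟨2, 533, 18, [], [⟨9, [], 186, 1, [2, 3, 4, 6, 5, 2, 4, 3]⟩, ⟨9, [123, 120, 129, 125, 123, 121], 137, 0, [5, 4, 6, 8, 6, 4, 6, 5, 2, 9, 11]⟩, ⟨9, [101, 103, 101], 265, 1, [3, 2, 4, 6, 5, 4, 9, 6, 5, 11]⟩], 0⟩ : Der)))) (ndA (nat_lit 228) (lfA (⟨2, 0, 0, [], [⟨0, [], 452, 1, []⟩], 0⟩ : Der)) (ndA (nat_lit 229) (lfA (⟨2, 533, 0,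 [], [⟨9, [], 454, 1, [3, 8, 5, 2, 3, 1, 11]⟩, ⟨9, [260, 260], 264, 0, [3, 1, 2, 4, 6, 4, 5, 2, 4, 3, 2, 10]⟩, ⟨9, [105, 103, 101, 103], 375, 1, [8, 5, 2, 4, 8, 6, 9, 10]⟩], 0⟩ : Der)) (lfA (⟨2, 0, 0, [], [⟨0, [], 456, 1, []⟩], 0⟩ : Der))))) (ndA (nat_lit 233) (ndA (nat_lit 231) (lfA (⟨2, 534, 27, [], [⟨9, [], 390, 1, [4, 8, 6, 1, 5, 4, 8]⟩, ⟨9, [257, 323, 260], 366, 0, [6, 4, 9, 6, 5, 2, 4, 3, 11]⟩, ⟨9, [101, 103], 265, 1, [1, 4, 6, 5, 4, 8, 5, 6, 1, 8, 10]⟩], 0⟩ : Der)) (ndA (nat_lit 232) (lfA (⟨2, 0, 0, [], [⟨0, [], 460, 1, []⟩], 0⟩ : Der)) (lfA (⟨2, 533, 9, [], [⟨9, [], 374, 0, [1, 4, 5, 2, 6, 8, 6, 4, 5, 6, 4, 11]⟩, ⟨9, [], 265, 1, [3, 2, 4, 5, 4, 8, 5, 4, 6, 1, 11]⟩, ⟨9, [259, 323, 323, 256],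 455, 0, [2, 5, 2, 4, 6, 4, 8, 6, 1, 11]⟩], 1⟩ : Der)))) (ndA (nat_lit 234) (lfA (⟨2, 0, 0, [], [⟨0, [], 464, 0, []⟩], 1⟩ : Der)) (ndA (nat_lit 235) (lfA (⟨2, 533, 18, [], [⟨9, [], 454, 1, [1, 2, 4, 3, 1, 2, 6, 5, 4, 8, 6, 10]⟩, ⟨9, [322, 322, 322, 257], 316, 0, [1, 6, 4, 9, 5, 6, 4, 3, 11]⟩, ⟨9, [103, 101], 265, 1, [3, 6, 4, 5, 4, 8, 5, 4, 6, 9]⟩], 0⟩ : Der)) (lfA (⟨2, 0, 0, [], [⟨0, [], 468, 1, []⟩], 0⟩ : Der))))))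
noncomputable def DT : ℕ → Der := (ndA (nat_lit 112) (ndA (nat_lit 48) (ndA (nat_lit 16) DT0 (ndA (nat_lit 32) DT1 DT2)) (ndA (nat_lit 80) (ndA (nat_lit 64) DT3 DT4) (ndA (nat_lit 96) DT5 DT6))) (ndA (nat_lit 176) (ndA (nat_lit 144) (ndA (nat_lit 128) DT7 DT8) (ndA (nat_lit 160) DT9 DT10)) (ndA (nat_lit 208) (ndA (nat_lit 192) DT11 DT12) (ndA (nat_lit 224) DT13 DT14))))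

def g0 : List ℕ := [1, 2, 3, 4, 5, 6, 7, 8, 9, 10, 11]
noncomputable def S0 : ℕ := Nat.lor (Nat.pow 2 32768) (Nat.lor (Nat.pow 2 22275) (Nat.lor (Nat.pow 2 55046) (Nat.lor (Nat.pow 2 87812) (0))))
noncomputable def bl0 : List (ℕ × ℕ) := [(87812, Nat.shiftLeft (Nat.pred (Nat.pow 2 275)) 87811), (55046, Nat.shiftLeft (Nat.pred (Nat.pow 2 275)) 55043), (22275, Nat.shiftLeft (Nat.pred (Nat.pow 2 275)) 22275), (32768, Nat.mul (Nat.pred (Nat.pow 2 22275)) (Nat.add (Nat.add (Nat.pow 2 32768) (Nat.pow 2 65536)) (Nat.pow 2 98304)))]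
theorem blk0 : blkOK LM0.nets (g0.map fun x => [x]) S0 bl0 = true := by decide +kernel
theorem ty0 : typeOK LM0.nets g0 LM0.rels iv = true := by decide +kernel

def g1 : List ℕ := [1, 2, 3, 4, 5, 6, 8, 9, 10, 11, 12, 13]
noncomputable def S1 : ℕ := Nat.lor (Nat.pow 2 256) (Nat.lor (Nat.pow 2 8448) (Nat.lor (Nat.pow 2 8465) (Nat.lor (Nat.pow 2 8482) (Nat.lor (Nat.pow 2 8499) (0)))))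
noncomputable def bl1 : List (ℕ × ℕ) := [(8499, Nat.shiftLeft (Nat.pred (Nat.pow 2 11)) 8496), (8482, Nat.shiftLeft (Nat.pred (Nat.pow 2 11)) 8480), (8465, Nat.shiftLeft (Nat.pred (Nat.pow 2 11)) 8464), (8448, Nat.shiftLeft (Nat.pred (Nat.pow 2 11)) 8448), (256, Nat.shiftLeft (Nat.pred (Nat.pow 2 5040)) 256)]
theorem blk1 : blkOK LM1.nets (g1.map fun x => [x]) S1 bl1 = true := by decide +kernel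
theorem ty1 : typeOK LM1.nets g1 LM1.rels iv = true := by decide +kernel

noncomputable def q0 : List ℕ → List ℕ → Bool := eqvN LM0.nets (mskL g0) S0
noncomputable def q1 : List ℕ → List ℕ → Bool := eqvN LM1.nets (mskL g1) S1

noncomputable def chk : ℕ → Bool := chkF FT DT LW rels iv g0 (selE [q0, q1])

def s0_0 : Sid := ⟨0, [0, 1, 2, 3, 4, 5, 6, 7, 8, 9, 10, 11, 12, 13, 14, 15], [(16, 0)], [12, 4, 8, 10, 6, 12, 10, 8, 6, 2, 12, 14, 10, 8, 12, 6, 10, 0, 12, 8, 2, 6, 4, 10, 0]⟩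
def s0_1 : Sid := ⟨2, [36, 37, 38, 39, 40, 41, 42, 43, 44, 45], [(35, 0), (46, 1), (224, 26), (86, 2458), (223, 7495), (109, 2559), (96, 10185), (182, 8520), (238, 16162), (179, 14040)], [2, 4, 6, 0, 2, 4, 8, 6, 0, 4, 2, 6, 8, 0, 4, 2, 0]⟩
def s0_2 : Sid := ⟨4, [56, 57, 58, 59, 60, 61, 62, 63, 64, 65, 70, 71], [(55, 0), (98, 1), (72, 3), (110, 56)], [10, 0, 4, 8, 6, 10, 2, 8, 4, 10, 6, 0, 8, 10, 2, 6, 8, 0]⟩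
def s0_3 : Sid := ⟨8, [120, 121, 122, 123, 124, 125, 126, 127, 128, 129], [(119, 0), (142, 1), (192, 3), (211, 1390), (243, 4099), (159, 3362), (187, 11356), (141, 5059), (170, 1693), (190, 11288), (132, 6045), (219, 21588), (174, 18488), (253, 20135), (206, 8515), (231, 7657), (137, 1047), (234, 21109), (203, 12435), (167, 17463), (215, 9451), (162, 19689)], [0, 8, 4, 2, 6, 0, 8, 4, 2, 0, 8, 4, 2, 0, 2, 4, 0]⟩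
def s0_4 : Sid := ⟨12, [256, 257, 258, 259, 260, 261, 322, 323], [(255, 0), (264, 4081), (269, 11643), (273, 18243), (276, 2977), (280, 12076), (285, 5885), (289, 1268), (292, 13419), (297, 5893), (300, 5406), (304, 9008), (309, 15236), (313, 14991), (316, 16933), (347, 19762), (415, 9150), (374, 13292), (455, 256), (451, 3931), (419, 6931), (434, 18599), (423, 19845), (403, 13407), (338, 20316), (431, 17981), (446, 13813), (459, 16097), (383, 9070), (471, 423), (386, 2318), (350, 1769), (370, 12833), (366, 5402), (343, 6344), (426, 3588), (407, 14954), (359, 13920), (335, 17675), (394, 21164), (363, 8040), (466, 12186), (327, 1483), (379, 6651), (354, 17882), (438, 16607), (331, 10953), (463, 18084),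 (443, 20881), (411, 11557), (398, 21271), (391, 8485)], [6, 4, 2, 0, 6, 0, 6, 2, 6, 0, 6, 0, 6, 2]⟩
def SS0 : List Sid := [s0_0, s0_1, s0_2, s0_3, s0_4]
noncomputable def full0 : ℕ := Nat.pred (Nat.pow 2 22275)

def s1_0 : Sid := ⟨1, [18, 19, 20, 21, 22, 23, 24, 25, 26, 27, 28, 29, 30, 31, 32, 33], [(17, 0), (34, 1), (118, 21), (54, 94)], [0, 8, 14, 6, 14, 10, 0, 6, 4]⟩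
def s1_1 : Sid := ⟨3, [48, 49, 50, 51, 52, 53], [(47, 0), (458, 15), (191, 84), (470, 26), (186, 34), (454, 147), (467, 152), (97, 155)], [2, 4, 0, 2, 4, 0, 4, 0]⟩
def s1_2 : Sid := ⟨5, [74, 75, 76, 77, 78, 79, 80, 81, 82, 83, 92, 93], [(73, 0), (87, 126), (301, 137), (175, 21), (288, 163), (140, 156)], [10, 4, 8, 10, 0, 10, 4, 6]⟩
def s1_3 : Sid := ⟨6, [100, 101, 102, 103, 104, 105], [(99, 0), (317, 11), (171, 43), (367, 93), (375, 89), (265, 101), (136, 126), (284, 114), (108, 118), (281, 136)], [2, 0, 2, 4, 0, 2, 0, 2]⟩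
def s1_4 : Sid := ⟨7, [112, 113, 114, 115, 116, 117], [(111, 0), (402, 6), (166, 7), (163, 13), (371, 58), (158, 49), (183, 57), (430, 64), (326, 106), (178, 91), (296, 111), (268, 125), (133, 150), (277, 154), (272, 113), (390, 161), (462, 118), (254, 132), (293, 159)], [2, 4, 0, 2, 4, 2, 0]⟩
def s1_5 : Sid := ⟨9, [144, 145, 146, 147, 148, 149, 154, 155], [(143, 0)], [6, 0, 4, 6, 0, 4, 6, 0, 6, 4, 6, 0, 2, 0]⟩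
def s1_6 : Sid := ⟨10, [194, 195, 196, 197, 198, 199], [(193, 0), (218, 6), (312, 24), (214, 43), (330, 32), (334, 53), (346, 66), (207, 96), (355, 61), (210, 112), (222, 67), (395, 91), (308, 90), (422, 110), (305, 143), (358, 158), (442, 128), (202, 151)], [4, 0, 2, 4, 0]⟩
def s1_7 : Sid := ⟨11, [226, 227, 248, 249], [(225, 0), (230, 148), (235, 161), (239, 122), (242, 134), (378, 80), (252, 81), (399, 56), (406, 104), (439, 16), (387, 17), (450, 30), (410, 147), (435, 47), (382, 138), (362, 132), (351, 31), (339, 35), (427, 157), (342, 127), (414, 114), (447, 111), (418, 144)], [2, 0, 2, 0, 2]⟩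
def SS1 : List Sid := [s1_0, s1_1, s1_2, s1_3, s1_4, s1_5, s1_6, s1_7]
noncomputable def full1 : ℕ := Nat.pred (Nat.pow 2 165)


end Cfsg.Agent.AN.LF
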